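/-
The property "every 2-central involution is a product of squares of its centralizer".
-/
import Mathlib

set_option autoImplicit false

namespace H20.Y
open Subgroup

variable {F F' : Type*} [Group F] [Group F']

/-- `u` lies in every subgroup containing the squares of its centralizer -/
def Sq (u : F) : Prop := ∀ Q : Subgroup F, (∀ x, x * u = u * x → x * x ∈ Q) → u ∈ Q

/-- the involutions centralizing some 2-subgroup are products of squares -/
def PB (F : Type*) [Group F] : Prop :=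
  ∃ B : Subgroup F, IsPGroup 2 B ∧ ∀ u, (∀ b ∈ B, b * u = u * b) → u * u = 1 → Sq u

theorem Sq.map {u : F} (h : Sq u) (f : F →* F') : Sq (f u) := fun Q hQ =>
  h (Q.comap f) fun x hx => by
    rw [mem_comap, map_mul]
    exact hQ _ (by rw [← map_mul, hx, map_mul])

theorem sq_one : Sq (1 : F) := fun Q _ => one_mem Q

theorem sq_of_sq {u x : F} (h : x * x = u) : Sq u := fun _ hQ => h ▸ hQ x (by rw [← h, mul_assoc])

/-- passing to a quotient -/
theorem PB.of_surj (f : F →* F') (hf : Function.Surjective f) (B : Subgroup F) (hB : IsPGroup 2 B)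
    (h : ∀ g, (∀ b ∈ B, f (b * g) = f (g * b)) → f (g * g) = 1 → ∃ g', f g' = f g ∧ Sq g') : PB F' := by
  refine ⟨B.map f, hB.map f, fun u hu u2 => ?_⟩
  obtain ⟨g, rfl⟩ := hf u
  obtain ⟨g', e, k⟩ := h g (fun b hb => by rw [map_mul, map_mul, hu _ ⟨b, hb, rfl⟩]) (by rw [map_mul, u2])
  exact e ▸ k.map f

theorem PB.of_equiv (h : PB F) (e : F ≃* F') : PB F' := by
  obtain ⟨B, hB, h⟩ := h
  exact PB.of_surj (e : F →* F') e.surjective B hB fun g h1 h2 =>
    ⟨g, rfl, h g (fun b hb => e.injective (h1 b hb)) (e.injective (h2.trans (map_one e).symm))⟩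

theorem PB.quot (B : Subgroup F) (hB : IsPGroup 2 B)
    (h : ∀ g, (∀ b ∈ B, g * b * g⁻¹ * b⁻¹ ∈ center F) → g * g ∈ center F →
      ∃ g', g⁻¹ * g' ∈ center F ∧ Sq g') : PB (F ⧸ center F) :=
  PB.of_surj (QuotientGroup.mk' _) (QuotientGroup.mk'_surjective _) B hB fun g h1 h2 => by
    obtain ⟨g', e, k⟩ := h g (fun b hb => by
      rw [← QuotientGroup.eq_one_iff, show g * b * g⁻¹ * b⁻¹ = g * b * (b * g)⁻¹ by group,
        QuotientGroup.mk_mul, QuotientGroup.mk_inv, mul_inv_eq_one]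
      exact (h1 b hb).symm) ((QuotientGroup.eq_one_iff _).1 h2)
    exact ⟨g', (QuotientGroup.eq.2 e).symm, k⟩

theorem isPGroup_of_pow {B : Subgroup F} {n : ℕ} (h : ∀ b ∈ B, b ^ 2 ^ n = 1) : IsPGroup 2 B :=
  fun b => ⟨n, Subtype.ext (h b b.2)⟩

end H20.Y
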