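/-
Linear, unitary and symplectic groups: quaternion blocks.
-/
import Cfsg.Agent.H20.Y.A0

set_option autoImplicit false
set_option linter.unusedSectionVars false

namespace H20.Y
open Subgroup Matrix

variable {K : Type*} [Field K] {κ ρ : Type*} [Fintype κ] [DecidableEq κ] [Fintype ρ] [DecidableEq ρ]

abbrev M2 (K : Type*) := Matrix (Fin 2) (Fin 2) K

def qI (K : Type*) [Field K] : M2 K := !![0, 1; -1, 0]
def qJ (a b : K) : M2 K := !![a, b; b, -a]

/-- the quaternion group -/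
def InQ (a b : K) (m : M2 K) : Prop :=
  ∃ n, (n = 1 ∨ n = qI K ∨ n = qJ a b ∨ n = qI K * qJ a b) ∧ (m = n ∨ m = -n)

theorem qI_sq : qI K * qI K = -1 := by
  ext i j; fin_cases i <;> fin_cases j <;> simp [qI]

theorem qJ_sq {a b : K} (h : a ^ 2 + b ^ 2 = -1) : qJ a b * qJ a b = -1 := by
  ext i j; fin_cases i <;> fin_cases j <;> simp [qJ] <;> first | linear_combination h | ring

theorem qJI (a b : K) : qJ a b * qI K = -(qI K * qJ a b) := by
  ext i j; fin_cases i <;> fin_cases j <;> simp [qJ, qI]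

theorem InQ.neg {a b : K} {m : M2 K} (h : InQ a b m) : InQ a b (-m) := by
  obtain ⟨n, h, rfl | rfl⟩ := h
  · exact ⟨_, h, .inr rfl⟩
  · exact ⟨_, h, .inl (neg_neg _)⟩

theorem inQ_one (a b : K) : InQ a b 1 := ⟨_, .inl rfl, .inl rfl⟩
theorem inQ_I (a b : K) : InQ a b (qI K) := ⟨_, .inr (.inl rfl), .inl rfl⟩
theorem inQ_J (a b : K) : InQ a b (qJ a b) := ⟨_, .inr (.inr (.inl rfl)), .inl rfl⟩
theorem inQ_IJ (a b : K) : InQ a b (qI K * qJ a b) := ⟨_, .inr (.inr (.inr rfl)), .inl rfl⟩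

theorem InQ.ind {a b : K} {P : M2 K → Prop} (h1 : P 1) (h2 : P (qI K)) (h3 : P (qJ a b))
    (h4 : ∀ m n, P m → P n → P (m * n)) {m : M2 K} (h : InQ a b m) : P m := by
  have k : ∀ n, P n → P (-n) := fun n hn => by
    rw [← neg_one_mul, ← qI_sq]; exact h4 _ _ (h4 _ _ h2 h2) hn
  obtain ⟨n, h, e⟩ := h
  have : P n := by
    rcases h with rfl | rfl | rfl | rfl
    exacts [h1, h2, h3, h4 _ _ h2 h3]
  rcases e with rfl | rfl
  exacts [this, k _ this]

theorem InQ.mul {a b : K} (h : a ^ 2 + b ^ 2 = -1) {m n : M2 K} (hm : InQ a b m) (hn : InQ a b n) :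
    InQ a b (m * n) := by
  have k : ∀ (x : M2 K), (∀ n, (n = 1 ∨ n = qI K ∨ n = qJ a b ∨ n = qI K * qJ a b) → InQ a b (x * n)) →
      ∀ n, InQ a b n → InQ a b (x * n) := fun x hx n ⟨l, h1, h2⟩ => by
    rcases h2 with rfl | rfl
    · exact hx _ h1
    · rw [mul_neg]; exact (hx _ h1).neg
  refine hm.ind (P := fun m => ∀ n, InQ a b n → InQ a b (m * n)) (fun n h => by rwa [one_mul])
    (k _ ?_) (k _ ?_) (fun x y hx hy n hn => mul_assoc x y n ▸ hx _ (hy _ hn)) n hn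
  · rintro _ (rfl | rfl | rfl | rfl)
    · exact (mul_one (qI K)).symm ▸ inQ_I a b
    · exact qI_sq (K := K) ▸ (inQ_one a b).neg
    · exact inQ_IJ a b
    · rw [← mul_assoc, qI_sq, neg_one_mul]; exact (inQ_J a b).neg
  · rintro _ (rfl | rfl | rfl | rfl)
    · exact (mul_one (qJ a b)).symm ▸ inQ_J a b
    · exact qJI a b ▸ (inQ_IJ a b).neg
    · exact qJ_sq h ▸ (inQ_one a b).neg
    · rw [← mul_assoc, qJI, neg_mul, mul_assoc, qJ_sq h, mul_neg, mul_one, neg_neg]; exact inQ_I a b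

theorem InQ.pow {a b : K} (h : a ^ 2 + b ^ 2 = -1) {m : M2 K} (hm : InQ a b m) : m ^ 4 = 1 := by
  obtain ⟨n, h1, h2⟩ := hm
  have : n * n = 1 ∨ n * n = -1 := by
    rcases h1 with rfl | rfl | rfl | rfl
    · exact .inl (one_mul 1)
    · exact .inr qI_sq
    · exact .inr (qJ_sq h)
    · refine .inr ?_
      rw [mul_assoc, ← mul_assoc (qJ a b), qJI, neg_mul, mul_assoc, qJ_sq h, mul_neg_one, neg_neg, qI_sq]
  have e : m ^ 4 = n * n * (n * n) := by
    rcases h2 with rfl | rfl <;> simp [pow_succ, mul_assoc]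
  rcases this with k | k <;> simp [e, k]

theorem scal_of_comm (h2 : (2 : K) ≠ 0) {a b : K} (h : a ^ 2 + b ^ 2 = -1) {A : M2 K}
    (h1 : A * qI K = qI K * A) (h3 : A * qJ a b = qJ a b * A) : A = A 0 0 • 1 := by
  have e1 := congrFun (congrFun h1 0) 0
  have e2 := congrFun (congrFun h1 0) 1
  have e3 := congrFun (congrFun h3 0) 0
  have e4 := congrFun (congrFun h3 0) 1
  simp [qI, qJ, Matrix.mul_apply, Fin.sum_univ_two] at e1 e2 e3 e4
  have : A 0 1 = 0 := mul_left_cancel₀ h2 (by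
    linear_combination (-b) * e3 + a * e4 + (b * b) * e1 - a * b * e2 + 2 * A 0 1 * h)
  ext i j; fin_cases i <;> fin_cases j <;> simp [this]
  · linear_combination -e1 - this
  · exact e2.symm

/-- block diagonal matrices -/
def bd (q : κ → M2 K) (c : Matrix ρ ρ K) : Matrix ((Fin 2 × κ) ⊕ ρ) ((Fin 2 × κ) ⊕ ρ) K :=
  fromBlocks (blockDiagonal q) 0 0 c

theorem bd_mul (q r : κ → M2 K) (c d : Matrix ρ ρ K) : bd q c * bd r d = bd (q * r) (c * d) := by
  simp [bd, fromBlocks_multiply, ← blockDiagonal_mul, Pi.mul_def]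

theorem bd_one : bd (1 : κ → M2 K) (1 : Matrix ρ ρ K) = 1 := by simp [bd]

theorem bd_smul (a : K) (q : κ → M2 K) (c : Matrix ρ ρ K) : a • bd q c = bd (a • q) (a • c) := by
  simp [bd, fromBlocks_smul, blockDiagonal_smul]

theorem bd_inj {q r : κ → M2 K} {c d : Matrix ρ ρ K} (h : bd q c = bd r d) : q = r ∧ c = d :=
  let ⟨h1, _, _, h2⟩ := fromBlocks_inj.1 h
  ⟨blockDiagonal_injective h1, h2⟩

theorem bd_det (q : κ → M2 K) (c : Matrix ρ ρ K) : (bd q c).det = (∏ k, (q k).det) * c.det := by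
  rw [bd, det_fromBlocks_zero₂₁, det_blockDiagonal]

theorem bd_pow (q : κ → M2 K) (n : ℕ) : bd q (1 : Matrix ρ ρ K) ^ n = bd (q ^ n) 1 := by
  induction n with
  | zero => simp [bd_one]
  | succ n ih => rw [pow_succ, ih, bd_mul, pow_succ, one_mul]

theorem bd_z (k : κ) : bd (Pi.mulSingle k (-1 : M2 K)) (1 : Matrix ρ ρ K) =
    diagonal (Sum.elim (fun s => if s.2 = k then -1 else 1) 1) := by
  ext (⟨s, l⟩ | s) (⟨s', l'⟩ | s') <;>
    simp [bd, blockDiagonal_apply, diagonal_apply, Pi.mulSingle_apply, one_apply]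
  split_ifs <;> simp_all [one_apply]

theorem exists_bd (h2 : (2 : K) ≠ 0) {G : Matrix ((Fin 2 × κ) ⊕ ρ) ((Fin 2 × κ) ⊕ ρ) K}
    (h : ∀ k, G * bd (Pi.mulSingle k (-1)) 1 = bd (Pi.mulSingle k (-1)) 1 * G) : ∃ q c, G = bd q c := by
  refine ⟨fun k => of fun s s' => G (.inl (s, k)) (.inl (s', k)), of fun r r' => G (.inr r) (.inr r'), ?_⟩
  have z : ∀ x : K, -x = x ∨ x = -x → x = 0 := fun x k => mul_left_cancel₀ h2 (by
    rcases k with k | k
    · linear_combination -k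
    · linear_combination k)
  simp only [bd_z] at h
  ext (⟨s, l⟩ | s) (⟨s', l'⟩ | s')
  · by_cases e : l = l'
    · simp [bd, blockDiagonal_apply, e]
    · have := congrFun (congrFun (h l) (.inl (s, l))) (.inl (s', l'))
      simp [Ne.symm e] at this
      simp [bd, blockDiagonal_apply, e, z _ (.inr this)]
  · have := congrFun (congrFun (h l) (.inl (s, l))) (.inr s')
    simp at this
    simp [bd, z _ (.inr this)]
  · have := congrFun (congrFun (h l') (.inr s)) (.inl (s', l'))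
    simp at this
    simp [bd, z _ (.inl this)]
  · simp [bd]

theorem pb_bd (h2 : (2 : K) ≠ 0) {a b : K} (h : a ^ 2 + b ^ 2 = -1) [Subsingleton ρ] [Nonempty κ]
    (h3 : Nontrivial κ ∨ Nonempty ρ) {X : Type*} [Group X]
    (ψ : X →* Matrix ((Fin 2 × κ) ⊕ ρ) ((Fin 2 × κ) ⊕ ρ) K) (hψ : Function.Injective ψ)
    (hc : ∀ z ∈ center X, ∃ c : K, ψ z = c • 1)
    (hq : ∀ q : κ → M2 K, (∀ k, InQ a b (q k)) → ∃ x, ψ x = bd q 1) : PB (X ⧸ center X) := by
  have p4 : ∀ x q, (∀ k, InQ a b (q k)) → ψ x = bd q 1 → x ^ 4 = 1 := fun x q h1 e => hψ (by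
    rw [map_pow, e, bd_pow, map_one, ← bd_one]
    exact congrArg (bd · 1) (funext fun k => (h1 k).pow h))
  let M : Submonoid X :=
    { carrier := {x | ∃ q, (∀ k, InQ a b (q k)) ∧ ψ x = bd q 1}
      mul_mem' := fun ⟨q, h1, e⟩ ⟨r, h3, f⟩ =>
        ⟨q * r, fun k => (h1 k).mul h (h3 k), by rw [map_mul, e, f, bd_mul, one_mul]⟩
      one_mem' := ⟨1, fun _ => inQ_one a b, by rw [map_one, bd_one]⟩ }
  let B : Subgroup X := ⟨M, fun {x} hx => by
    have : x⁻¹ = x ^ 3 := inv_eq_of_mul_eq_one_right (by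
      rw [← pow_succ']; exact let ⟨q, h1, e⟩ := hx; p4 x q h1 e)
    exact this ▸ M.pow_mem hx 3⟩
  refine PB.quot B (isPGroup_of_pow (n := 2) fun x ⟨q, h1, e⟩ => p4 x q h1 e) fun g h1 h4 => ?_
  have k1 : ∀ k m, InQ a b m → ∃ c : K, ψ g * bd (Pi.mulSingle k m) 1 = c • (bd (Pi.mulSingle k m) 1 * ψ g) :=
    fun k m hm => by
      have hm' : ∀ l, InQ a b ((Pi.mulSingle k m : κ → M2 K) l) := fun l => by
        rw [Pi.mulSingle_apply]; split_ifs; exacts [hm, inQ_one a b]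
      obtain ⟨x, e⟩ := hq _ hm'
      obtain ⟨c, f⟩ := hc _ (h1 x ⟨_, hm', e⟩)
      refine ⟨c, ?_⟩
      rw [← e, ← map_mul, ← map_mul, show g * x = g * x * g⁻¹ * x⁻¹ * (x * g) by group, map_mul, f,
        smul_mul_assoc, one_mul]
  obtain ⟨A, C, e⟩ := exists_bd h2 (G := ψ g) fun k => by
    obtain ⟨c, e⟩ := k1 k _ (inQ_I a b)
    obtain ⟨d, f⟩ := k1 k _ (inQ_J a b)
    set I := bd (ρ := ρ) (Pi.mulSingle k (qI K)) 1
    set J := bd (ρ := ρ) (Pi.mulSingle k (qJ a b)) 1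
    set z := bd (ρ := ρ) (Pi.mulSingle k (-1 : M2 K)) 1
    have e1 : I * J = z * (J * I) := by
      simp only [I, J, z, bd_mul, ← Pi.mulSingle_mul, qJI, neg_one_mul, neg_neg, one_mul]
    have e2 : J * I * (J * I) ^ 3 = 1 := by
      rw [← pow_succ', bd_mul, one_mul, bd_pow, ← Pi.mulSingle_mul, ← Pi.mulSingle_pow,
        ((inQ_J a b).mul h (inQ_I a b)).pow h, Pi.mulSingle_one, bd_one]
    have e3 : ψ g * (I * J) = (c * d) • (I * J * ψ g) := by
      rw [← mul_assoc, e, smul_mul_assoc, mul_assoc, f, mul_smul_comm, smul_smul, mul_assoc]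
    have e4 : ψ g * (J * I) = (c * d) • (J * I * ψ g) := by
      rw [← mul_assoc, f, smul_mul_assoc, mul_assoc, e, mul_smul_comm, smul_smul, mul_assoc, mul_comm]
    rw [e1, mul_assoc z, ← mul_smul_comm, ← e4, ← mul_assoc, ← mul_assoc z] at e3
    rw [← mul_one (ψ g * z), ← e2, ← mul_assoc, e3, mul_assoc _ (J * I), e2, mul_one]
  have dt : (∏ k, (A k).det) * C.det ≠ 0 := by
    rw [← bd_det, ← e]
    exact ((Group.isUnit g).map ψ |>.map detMonoidHom).ne_zero
  have k2 : ∀ k m, InQ a b m → A k * m = m * A k := fun k m hm => by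
    obtain ⟨c, f⟩ := k1 k m hm
    rw [e, bd_mul, bd_mul, bd_smul] at f
    obtain ⟨f1, f2⟩ := bd_inj f
    obtain rfl : c = 1 := by
      by_contra c1
      rcases h3 with h3 | ⟨⟨r⟩⟩
      · obtain ⟨l, hl⟩ := exists_ne k
        have := congrFun f1 l
        simp only [Pi.mul_apply, Pi.smul_apply, Pi.mulSingle_eq_of_ne hl, mul_one, one_mul] at this
        have : A l = 0 := (smul_eq_zero.1 (show (1 - c) • A l = 0 by
          rw [sub_smul, ← this, one_smul, sub_self])).resolve_left (sub_ne_zero.2 (Ne.symm c1))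
        exact left_ne_zero_of_mul dt (Finset.prod_eq_zero (Finset.mem_univ l) (by simp [this]))
      · rw [mul_one, one_mul] at f2
        have : C = 0 := (smul_eq_zero.1 (show (1 - c) • C = 0 by
          rw [sub_smul, ← f2, one_smul, sub_self])).resolve_left (sub_ne_zero.2 (Ne.symm c1))
        exact right_ne_zero_of_mul dt (this ▸ haveI : Nonempty ρ := ⟨r⟩; det_zero)
    simpa using congrFun f1 k
  have k3 : ∀ k, A k = A k 0 0 • 1 := fun k => scal_of_comm h2 h (k2 k _ (inQ_I a b)) (k2 k _ (inQ_J a b))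
  obtain ⟨μ, f⟩ := hc _ h4
  rw [map_mul, e, bd_mul, ← bd_one, bd_smul] at f
  obtain ⟨f1, f2⟩ := bd_inj f
  have f3 : ∀ k, A k 0 0 * A k 0 0 = μ := fun k => by
    have := congrFun (congrFun (congrFun f1 k) 0) 0
    rw [Pi.mul_apply, k3 k] at this
    simpa using this
  obtain ⟨c, c1, c2⟩ : ∃ c : K, c * c = μ ∧ C = c • 1 := by
    rcases isEmpty_or_nonempty ρ with _ | ⟨⟨r⟩⟩
    · exact ⟨_, f3 (Classical.arbitrary κ), Subsingleton.elim _ _⟩
    · have : C = C r r • 1 := by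
        ext i j; rw [Subsingleton.elim i r, Subsingleton.elim j r]; simp
      refine ⟨C r r, ?_, this⟩
      rw [this] at f2
      simpa using congrFun (congrFun f2 r) r
  classical
  obtain ⟨x, hx⟩ := hq (fun k => if A k 0 0 = c then 1 else qI K) fun k => by
    split_ifs; exacts [inQ_one a b, inQ_I a b]
  have : ψ g = c • ψ (x * x) := by
    rw [map_mul, hx, bd_mul, bd_smul, e, c2, one_mul]
    refine congrArg (bd · _) (funext fun k => ?_)
    rw [k3, Pi.smul_apply, Pi.mul_apply]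
    split_ifs with l
    · rw [l, one_mul]
    · rw [qI_sq, (mul_self_eq_mul_self_iff.1 ((f3 k).trans c1.symm)).resolve_left l, neg_smul, smul_neg]
  refine ⟨x * x, ?_, sq_of_sq rfl⟩
  rw [← inv_mem_iff, mem_center_iff]
  intro y
  apply hψ
  have e' : ψ (g⁻¹ * (x * x))⁻¹ = c • 1 := by
    rw [_root_.mul_inv_rev, inv_inv, map_mul, this, mul_smul_comm, ← map_mul, inv_mul_cancel, map_one]
  rw [map_mul, map_mul, e']
  simp

end H20.Y
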