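/-
Linear, unitary and symplectic groups in odd characteristic.
-/
import Cfsg.Agent.H20.Y.B1
import Cfsg.Agent.H11.SUBasic
import Cfsg.Agent.H11.SpSimple
import Cfsg.Agent.H11.Order3

set_option autoImplicit false
set_option linter.unusedSectionVars false

namespace H20.Y
open Subgroup Matrix Cfsg
open scoped MatrixGroups

variable {K : Type*} [Field K] {κ ρ : Type*} [Fintype κ] [DecidableEq κ] [Fintype ρ] [DecidableEq ρ]

theorem pb_bd' (h2 : (2 : K) ≠ 0) {a b : K} (h : a ^ 2 + b ^ 2 = -1) [Subsingleton ρ] [Nonempty κ]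
    (h3 : Nontrivial κ ∨ Nonempty ρ) {X ι : Type*} [Group X] [Fintype ι] [DecidableEq ι]
    (ε : (Fin 2 × κ) ⊕ ρ ≃ ι) (ψ : X →* Matrix ι ι K) (hψ : Function.Injective ψ)
    (hc : ∀ z ∈ center X, ∃ c : K, ψ z = scalar ι c)
    (hq : ∀ q : κ → M2 K, (∀ k, InQ a b (q k)) → ∃ x, ψ x = (bd q 1).submatrix ε.symm ε.symm) :
    PB (X ⧸ center X) := by
  refine pb_bd h2 h h3 ((reindexAlgEquiv K K ε.symm).toMonoidHom.comp ψ)
    ((reindexAlgEquiv K K ε.symm).injective.comp hψ) (fun z hz => ?_) fun q hq' => ?_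
  · obtain ⟨c, e⟩ := hc z hz
    exact ⟨c, by simp [e, scalar_apply, smul_one_eq_diagonal, submatrix_diagonal_equiv, Function.comp_def]⟩
  · obtain ⟨x, e⟩ := hq q hq'
    exact ⟨x, by simp [e]⟩

theorem InQ.det {a b : K} (h : a ^ 2 + b ^ 2 = -1) {m : M2 K} (hm : InQ a b m) : m.det = 1 :=
  hm.ind (P := fun m => m.det = 1) det_one (by simp [qI, det_fin_two])
    (by simp [qJ, det_fin_two]; linear_combination -h) fun m n h1 h2 => by rw [det_mul, h1, h2, one_mul]

theorem exists_ab [Finite K] : ∃ a b : K, a ^ 2 + b ^ 2 = -1 := by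
  obtain ⟨p, hp⟩ := CharP.exists K
  have : NeZero p := ⟨CharP.char_ne_zero_of_finite K p⟩
  obtain ⟨a, b, h⟩ := CharP.sq_add_sq K p (-1)
  exact ⟨a, b, by simpa using h⟩

theorem exists_eqv {n : ℕ} (hn : 3 ≤ n) : ∃ m r, ∃ _ : Subsingleton (Fin r), ∃ _ : Nonempty (Fin m),
    (Nontrivial (Fin m) ∨ Nonempty (Fin r)) ∧ Nonempty ((Fin 2 × Fin m) ⊕ Fin r ≃ Fin n) := by
  refine ⟨n / 2, n % 2, Fin.subsingleton_iff_le_one.2 (by omega), ⟨⟨0, by omega⟩⟩, ?_,
    ⟨Fintype.equivFinOfCardEq (by simp; omega)⟩⟩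
  by_cases h : n = 3
  · exact .inr ⟨⟨0, by omega⟩⟩
  · exact .inl (Fin.nontrivial_iff_two_le.2 (by omega))

theorem pb_psl [Finite K] (h2 : (2 : K) ≠ 0) {n : ℕ} (hn : 3 ≤ n) : PB PSL(n, K) := by
  obtain ⟨a, b, h⟩ := exists_ab (K := K)
  obtain ⟨m, r, _, _, h3, ⟨ε⟩⟩ := exists_eqv hn
  refine pb_bd' h2 h h3 ε (slToMat n K) (fun _ _ e => Subtype.ext e) (fun z hz => ?_) fun q hq => ?_
  · obtain ⟨c, -, e⟩ := Matrix.SpecialLinearGroup.mem_center_iff.1 hz
    exact ⟨c, e.symm⟩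
  · exact ⟨⟨(bd q 1).submatrix ε.symm ε.symm, by rw [det_submatrix_equiv_self, bd_det]; simp [(hq _).det h]⟩, rfl⟩

theorem pb_psp [Finite K] (h2 : (2 : K) ≠ 0) {m : ℕ} (hm : 2 ≤ m) : PB (PSp m K) := by
  obtain ⟨a, b, h⟩ := exists_ab (K := K)
  have : Nonempty (Fin m) := ⟨⟨0, by omega⟩⟩
  let ε : (Fin 2 × Fin m) ⊕ Empty ≃ Fin m ⊕ Fin m :=
    (Equiv.sumEmpty _ _).trans ((finTwoEquiv.prodCongr (Equiv.refl _)).trans (Equiv.boolProdEquivSum _))
  refine pb_bd' h2 h (.inl (Fin.nontrivial_iff_two_le.2 hm)) ε (symplecticGroup (Fin m) K).subtype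
    Subtype.val_injective (fun z hz => ?_) fun q hq => ?_
  · rcases (H11.sp_mem_center_iff z).1 hz with e | e
    · exact ⟨1, by simpa using e⟩
    · exact ⟨-1, by rw [map_neg, map_one]; exact e⟩
  · refine ⟨⟨(bd q 1).submatrix ε.symm ε.symm, SymplecticGroup.mem_iff.2 ?_⟩, rfl⟩
    have e : J (Fin m) K = (bd (fun _ => -qI K) (1 : Matrix Empty Empty K)).submatrix ε.symm ε.symm := by
      ext (i | i) (j | j) <;> simp [ε, J, bd, qI, blockDiagonal_apply, one_apply, finTwoEquiv]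
      split_ifs <;> simp
    have t : (bd q (1 : Matrix Empty Empty K))ᵀ = bd (fun k => (q k)ᵀ) 1 := by
      simp [bd, fromBlocks_transpose, blockDiagonal_transpose]
    rw [e, transpose_submatrix, submatrix_mul_equiv, submatrix_mul_equiv, t, bd_mul, bd_mul, one_mul,
      one_mul]
    refine congrArg (fun x => (bd x 1).submatrix _ _) (funext fun k => ?_)
    have := (hq k).det h
    rw [det_fin_two] at this
    ext i j; fin_cases i <;> fin_cases j <;> simp [qI, Matrix.mul_apply, Fin.sum_univ_two] <;>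
      first | ring1 | linear_combination this | linear_combination -this

theorem pb_psu [Fintype K] (h2 : (2 : K) ≠ 0) {n q : ℕ} (hK : Fintype.card K = q ^ 2) (hn : 3 ≤ n) :
    PB (PSU n K q) := by
  obtain ⟨a, b, h, ha, hb⟩ : ∃ a b : K, a ^ 2 + b ^ 2 = -1 ∧ H11.frob hK a = -a ∧ H11.frob hK b = -b := by
    obtain ⟨i, hi⟩ : IsSquare (-1 : K) := FiniteField.isSquare_neg_one_iff.2 (by
      rw [hK, pow_two, Nat.mul_mod]
      have : q % 4 < 4 := Nat.mod_lt _ (by norm_num)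
      interval_cases q % 4 <;> simp)
    have i0 : i ≠ 0 := by rintro rfl; simp at hi
    have : H11.frob hK i * H11.frob hK i = i * i := by rw [← map_mul, ← hi, map_neg, map_one]
    rcases mul_self_eq_mul_self_iff.1 this with k | k
    · obtain ⟨d, d0, hd⟩ := H11.exists_trace_zero hK
      replace hd : H11.frob hK d = -d := eq_neg_of_add_eq_zero_right hd
      refine ⟨(d - d⁻¹) / 2, (d + d⁻¹) / (2 * i), ?_, ?_, ?_⟩
      · field_simp
        linear_combination (-(d ^ 2 + 1) ^ 2) * hi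
      · rw [map_div₀, map_sub, map_inv₀, hd, map_ofNat]; ring
      · rw [map_div₀, map_add, map_inv₀, hd, map_mul, map_ofNat, k]; ring
    · exact ⟨i, 0, by linear_combination -hi, k, by rw [map_zero, neg_zero]⟩
  obtain ⟨m, l, _, _, h3, ⟨ε⟩⟩ := exists_eqv hn
  refine pb_bd' h2 h h3 ε ((slToMat n K).comp (SU n K q).subtype)
    (fun _ _ e => Subtype.ext (Subtype.ext e)) (fun z hz => (H11.su_mem_center_iff hK (by omega) z).1 hz)
    fun r hr => ?_
  refine ⟨⟨⟨(bd r 1).submatrix ε.symm ε.symm, by rw [det_submatrix_equiv_self, bd_det]; simp [(hr _).det h]⟩,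
    (H11.toGL_mem_GU n _).1 ((H11.mem_GU_iff_matrix hK n _).2 ?_)⟩, rfl⟩
  have t : (bd r (1 : Matrix (Fin l) (Fin l) K))ᵀ * (bd r 1).map (H11.frob hK) =
      bd (fun k => (r k)ᵀ * (r k).map (H11.frob hK)) 1 := by
    simp [bd, fromBlocks_transpose, blockDiagonal_transpose, fromBlocks_map, blockDiagonal_map,
      fromBlocks_multiply, blockDiagonal_mul, -H11.frob_apply]
  change ((bd r 1).submatrix _ _)ᵀ * ((bd r 1).submatrix _ _).map _ = 1
  rw [transpose_submatrix, ← submatrix_map, submatrix_mul_equiv, t, ← submatrix_one_equiv ε.symm, ← bd_one]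
  refine congrArg (fun x => (bd x 1).submatrix _ _) (funext fun k => ?_)
  refine (hr k).ind (P := fun m => mᵀ * m.map (H11.frob hK) = 1)
    (by simp [-H11.frob_apply, Matrix.map_one _ (map_zero _) (map_one _)]) ?_ ?_ fun x y hx hy => ?_
  · ext i j; fin_cases i <;> fin_cases j <;> simp [qI, Matrix.mul_apply, Fin.sum_univ_two, -H11.frob_apply]
  · ext i j; fin_cases i <;> fin_cases j <;>
      simp [qJ, Matrix.mul_apply, Fin.sum_univ_two, -H11.frob_apply, ha, hb] <;>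
      first | ring1 | linear_combination -h
  · rw [transpose_mul, Matrix.map_mul, mul_assoc, ← mul_assoc xᵀ, hx, one_mul, hy]

theorem pb_psl2 (h : IsSquare (2 : K)) (h2 : (2 : K) ≠ 0) : PB PSL(2, K) := by
  obtain ⟨s, hs⟩ := h
  have s0 : s ≠ 0 := by rintro rfl; simp [hs] at h2
  refine PB.quot ⊥ IsPGroup.of_bot fun g _ hg => ?_
  by_cases c : g ∈ center SL(2, K)
  · exact ⟨1, by simpa, sq_one⟩
  obtain ⟨r, -, e⟩ := Matrix.SpecialLinearGroup.mem_center_iff.1 hg
  have d := g.det_coe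
  rw [det_fin_two] at d
  have e1 := congrFun (congrFun e 0) 0
  have e2 := congrFun (congrFun e 0) 1
  have e3 := congrFun (congrFun e 1) 0
  have e4 := congrFun (congrFun e 1) 1
  simp [Matrix.mul_apply, Fin.sum_univ_two] at e1 e2 e3 e4
  have tr : g.1 0 0 + g.1 1 1 = 0 := by
    by_contra k
    have a1 : g.1 0 1 = 0 := mul_left_cancel₀ k (by linear_combination -e2)
    have a2 : g.1 1 0 = 0 := mul_left_cancel₀ k (by linear_combination -e3)
    have a3 : g.1 0 0 = g.1 1 1 := mul_left_cancel₀ k (by linear_combination e4 - e1)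
    refine c (Matrix.SpecialLinearGroup.mem_center_iff.2 ⟨g.1 0 0, by
      rw [Fintype.card_fin]; linear_combination d + a3 * g.1 0 0 + a1 * g.1 1 0, ?_⟩)
    ext i j; fin_cases i <;> fin_cases j <;> simp [a1, a2, a3]
  refine ⟨g, by simp, sq_of_sq (x := ⟨s⁻¹ • (1 + g.1), ?_⟩) (Subtype.ext ?_)⟩
  · simp [det_fin_two]; field_simp; linear_combination d + tr + hs
  · change s⁻¹ • (1 + g.1) * s⁻¹ • (1 + g.1) = g.1
    ext i j; fin_cases i <;> fin_cases j <;> simp [Matrix.mul_apply, Fin.sum_univ_two, -smul_add] <;> field_simp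
    · linear_combination -d + g.1 0 0 * tr + g.1 0 0 * hs
    · linear_combination g.1 0 1 * tr + g.1 0 1 * hs
    · linear_combination g.1 1 0 * tr + g.1 1 0 * hs
    · linear_combination -d + g.1 1 1 * tr + g.1 1 1 * hs

end H20.Y
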