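/-
Orthogonal groups in odd characteristic.
-/
import Cfsg.Agent.H20.Y.A0
import Cfsg.Agent.H11.LowDim
import Cfsg.Agent.H11.OmegaBridge
import Cfsg.Agent.H12.ClassifyQuad

set_option autoImplicit false
set_option linter.unusedSectionVars false

namespace H20.Y
open Subgroup Cfsg H11 H12 Module QuadraticMap Equiv

variable {F : Type*} [Field F] {V : Type*} [AddCommGroup V] [Module F V] {Q : QuadraticForm F V}
  {ι : Type*} [Fintype ι] [DecidableEq ι] {b : Basis ι F V} {A J : Finset ι} {c : F} {i j : ι}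
  {g h : orth Q} {π ρ : Perm ι} {ε η : ι → F}

/-- monomial isometries -/
def Mon (b : Basis ι F V) (g : orth Q) (π : Perm ι) (ε : ι → F) : Prop := ∀ k, g.1 (b k) = ε k • b (π k)

theorem Mon.mul (hg : Mon b g π ε) (hh : Mon b h ρ η) : Mon b (g * h) (π * ρ) fun k => η k * ε (ρ k) :=
  fun k => by rw [orth_mul_apply, hh, map_smul, hg, smul_smul, Perm.mul_apply]

theorem Mon.ext (hg : Mon b g π ε) (hh : Mon b h ρ η) (e : π = ρ) (e' : ∀ k, ε k = η k) : g = h :=
  Subtype.ext (LinearEquiv.toLinearMap_injective (b.ext fun k => by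
    simp only [LinearEquiv.coe_coe]; rw [hg, hh, e, e']))

theorem Mon.congr (hg : Mon b g π ε) (e : π = ρ) (e' : ∀ k, ε k = η k) : Mon b g ρ η := fun k => by
  rw [hg, e, e']

/-- the sign function of a set -/
def sg (F : Type*) [Field F] (J : Finset ι) (k : ι) : F := if k ∈ J then -1 else 1

structure OB (Q : QuadraticForm F V) (b : Basis ι F V) (A : Finset ι) (c : F) : Prop where
  two : (2 : F) ≠ 0
  ort : ∀ i j, i ≠ j → polar Q (b i) (b j) = 0
  ne : ∀ i, Q (b i) ≠ 0
  eq : ∀ i ∈ A, Q (b i) = c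
  five : 5 ≤ A.card

namespace OB
variable (H : OB Q b A c)
include H

theorem mon_r (i : ι) : Mon b (refl Q (b i)) 1 (sg F {i}) := fun k => by
  by_cases e : k = i
  · simp [e, sg, refl_apply_self (H.ne i)]
  · simp [e, sg, refl_apply_of_orth (H.ort _ _ (Ne.symm e))]

theorem mon_s (hi : i ∈ A) (hj : j ∈ A) (e : i ≠ j) : Mon b (refl Q (b i - b j)) (swap i j) 1 := fun k => by
  have q : Q (b i - b j) ≠ 0 := by
    rw [Q_sub, H.ort i j e, H.eq j hj, ← H.eq i hi, sub_zero, ← two_mul]
    exact mul_ne_zero H.two (H.ne i)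
  have k1 := refl_sub_apply ((H.eq i hi).trans (H.eq j hj).symm) q
  rw [Pi.one_apply, one_smul]
  by_cases e1 : k = i
  · rw [e1, swap_apply_left, k1]
  by_cases e2 : k = j
  · rw [e2, swap_apply_right]
    exact (congrArg _ k1.symm).trans (by rw [← orth_mul_apply, refl_mul_self, orth_one_apply])
  rw [swap_apply_of_ne_of_ne e1 e2, refl_apply_of_orth]
  rw [polar_sub_left, H.ort _ _ (Ne.symm e1), H.ort _ _ (Ne.symm e2), sub_self]

theorem ab_r (hi : i ∈ A) (hj : j ∈ A) :
    Abelianization.of (refl Q (b i)) = Abelianization.of (refl Q (b j)) := by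
  by_cases e : i = j
  · rw [e]
  have := congrArg Abelianization.of (refl_conj (refl Q (b i - b j)) (b i))
  rwa [map_mul, map_mul, map_inv, mul_inv_cancel_comm, H.mon_s hi hj e, swap_apply_left, Pi.one_apply,
    one_smul] at this

theorem ab_s {k l : ι} (hi : i ∈ A) (hj : j ∈ A) (hk : k ∈ A) (hl : l ∈ A) (e1 : i ≠ k) (e2 : i ≠ l)
    (e3 : j ≠ k) (e4 : j ≠ l) (e5 : i ≠ j) (e6 : k ≠ l) :
    Abelianization.of (refl Q (b i - b j)) = Abelianization.of (refl Q (b k - b l)) := by
  have := congrArg Abelianization.of (refl_conj (refl Q (b i - b k) * refl Q (b j - b l)) (b i - b j))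
  have m := (H.mon_s hi hk e1).mul (H.mon_s hj hl e4)
  rw [map_mul, map_mul, map_inv, mul_inv_cancel_comm, map_sub, m, m] at this
  simpa [swap_apply_of_ne_of_ne, e5, e2, e1.symm, e6.symm, e2.symm] using this

theorem mem_om (hJ : J ⊆ A) (he : Even J.card) (hg : Mon b g 1 (sg F J)) : g ∈ commutator (H12.orth Q) := by
  obtain ⟨i, hi⟩ := Finset.card_pos.1 (by have := H.five; omega : 0 < A.card)
  have : ∀ J : Finset ι, J ⊆ A → ∀ g : H12.orth Q, Mon b g 1 (sg F J) →
      Abelianization.of g = Abelianization.of (refl Q (b i)) ^ J.card := fun J => by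
    induction J using Finset.induction_on with
    | empty =>
      intro _ g hg
      rw [hg.ext (h := 1) (η := 1) (fun k => by simp) rfl fun k => by simp [sg]]; simp
    | insert j J hj ih =>
      intro hJ g hg
      have := ih ((Finset.subset_insert _ _).trans hJ) _ ((hg.mul (H.mon_r j)).congr (one_mul _) fun k => by
        by_cases e : k = j <;> simp [sg, e, hj])
      rw [map_mul, H.ab_r (hJ (Finset.mem_insert_self _ _)) hi] at this
      rw [Finset.card_insert_of_notMem hj, pow_succ, ← this, mul_assoc, ← map_mul, refl_mul_self, map_one,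
        mul_one]
  obtain ⟨n, e⟩ := he
  rw [← Abelianization.ker_of, MonoidHom.mem_ker, this J hJ g hg, e, ← two_mul, pow_mul, ← map_pow, pow_two,
    refl_mul_self, map_one, one_pow]

theorem exists_mon (J : Finset ι) : ∃ g : H12.orth Q, Mon b g 1 (sg F J) := by
  induction J using Finset.induction_on with
  | empty => exact ⟨1, fun k => by simp [sg]⟩
  | insert j J hj ih =>
    obtain ⟨g, hg⟩ := ih
    exact ⟨_, (hg.mul (H.mon_r j)).congr (one_mul _) fun k => by
      simp only [sg, Perm.one_apply, Finset.mem_singleton, Finset.mem_insert]; grind⟩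

theorem exists_y (hi : i ∈ J) (hj : j ∈ J) (e : i ≠ j) (hJ : J ⊆ A) (hg : Mon b g 1 (sg F J)) :
    ∃ y ∈ commutator (H12.orth Q), y * g = g * y ∧ Mon b (y * y) 1 (sg F {i, j}) := by
  obtain ⟨k, l, m, hk, hl, hm, kl, km, lm, hs⟩ : ∃ k l m, k ∈ A \ {i, j} ∧ l ∈ A \ {i, j} ∧ m ∈ A \ {i, j} ∧
      k ≠ l ∧ k ≠ m ∧ l ≠ m ∧ (k ∈ J ↔ l ∈ J) := by
    obtain ⟨x, y, z, hx, hy, hz, xy, xz, yz⟩ := Finset.two_lt_card_iff.1 (show 2 < (A \ {i, j}).card by
      have := Finset.le_card_sdiff {i, j} A
      have := Finset.card_le_two (a := i) (b := j)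
      have := H.five
      omega)
    by_cases a1 : x ∈ J ↔ y ∈ J
    · exact ⟨x, y, z, hx, hy, hz, xy, xz, yz, a1⟩
    by_cases a2 : x ∈ J ↔ z ∈ J
    · exact ⟨x, z, y, hx, hz, hy, xz, xy, yz.symm, a2⟩
    · exact ⟨y, z, x, hy, hz, hx, yz, xy.symm, xz.symm, by tauto⟩
  simp only [Finset.mem_sdiff, Finset.mem_insert, Finset.mem_singleton, not_or] at hk hl hm
  obtain ⟨hk, ki, kj⟩ := hk
  obtain ⟨hl, li, lj⟩ := hl
  obtain ⟨hm, mi, mj⟩ := hm
  have my := ((H.mon_s (hJ hi) (hJ hj) e).mul (H.mon_s hk hl kl)).mul ((H.mon_r i).mul (H.mon_r m))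
  have ik := Ne.symm ki
  have il := Ne.symm li
  have jk := Ne.symm kj
  have jl := Ne.symm lj
  refine ⟨_, ?_, (my.mul hg).ext (hg.mul my) (by simp) fun x => ?_, (my.mul my).congr ?_ fun x => ?_⟩
  · rw [← Abelianization.ker_of, MonoidHom.mem_ker, map_mul, map_mul, map_mul,
      H.ab_s (hJ hi) (hJ hj) hk hl ik il jk jl e kl, H.ab_r (hJ hi) hm, ← map_mul, ← map_mul, refl_mul_self,
      refl_mul_self, map_one, one_mul]
  · have : sg F J (swap i j (swap k l x)) = sg F J x := by
      simp only [sg, swap_apply_def]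
      grind
    simp [this, mul_comm]
  · ext x
    simp only [Perm.mul_apply, swap_apply_def, Perm.one_apply]
    grind
  · simp only [sg, Perm.mul_apply, swap_apply_def, Perm.one_apply, Pi.one_apply, Finset.mem_singleton,
      Finset.mem_insert]
    grind

theorem sq (hJ : J ⊆ A) (he : Even J.card) {u : commutator (H12.orth Q)} (hu : Mon b u.1 1 (sg F J)) :
    Sq u := by
  intro P hP
  suffices k : ∀ n, ∀ I ⊆ J, I.card = 2 * n → ∀ v : commutator (H12.orth Q), Mon b v.1 1 (sg F I) → v ∈ P by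
    obtain ⟨n, e⟩ := he
    exact k n J le_rfl (by omega) u hu
  intro n
  induction n with
  | zero =>
    intro I _ e v hv
    rw [Finset.card_eq_zero.1 e] at hv
    rw [show v = 1 from Subtype.ext
      (hv.ext (h := 1) (η := 1) (fun k => by simp) rfl fun k => by simp [sg])]
    exact one_mem P
  | succ n ih =>
    intro I hI e v hv
    obtain ⟨i, hi, j, hj, ij⟩ := Finset.one_lt_card.1 (show 1 < I.card by omega)
    obtain ⟨y, hy, y1, y2⟩ := H.exists_y (hI hi) (hI hj) ij hJ hu
    refine (mul_mem_cancel_right (hP ⟨y, hy⟩ (Subtype.ext y1))).1 (ih (I \ {i, j})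
      (Finset.sdiff_subset.trans hI) ?_ _ ((hv.mul y2).congr (one_mul _) fun x => ?_))
    · rw [Finset.card_sdiff_of_subset (by simp [Finset.insert_subset_iff, hi, hj]), Finset.card_pair ij]
      omega
    · simp only [sg, Perm.one_apply, Finset.mem_singleton, Finset.mem_insert, Finset.mem_sdiff]
      grind

theorem exists_sg (hg : Mon b g 1 ε) : ∃ J, Mon b g 1 (sg F J) := by
  classical
  refine ⟨Finset.univ.filter fun k => ε k = -1, hg.congr rfl fun k => ?_⟩
  have := orth_Q g (b k)
  rw [hg, Perm.one_apply, Q_smul, mul_eq_right₀ (H.ne k)] at this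
  rcases mul_self_eq_one_iff.1 this with e | e <;> simp [sg, e]

theorem even (hg : Mon b g 1 (sg F J)) (h1 : g ∈ commutator (H12.orth Q)) : Even J.card := by
  have := Module.Finite.of_basis b
  have := det_of_mem_commutator h1
  rw [← LinearMap.det_toMatrix b, show LinearMap.toMatrix b b (g.1 : V →ₗ[F] V) = Matrix.diagonal (sg F J) by
    ext i j
    rw [LinearMap.toMatrix_apply, LinearEquiv.coe_coe, hg, Matrix.diagonal_apply]
    by_cases e : i = j <;> simp [e], Matrix.det_diagonal] at this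
  simp only [sg, Finset.prod_ite_mem, Finset.univ_inter, Finset.prod_const] at this
  exact (neg_one_pow_eq_one_iff_even fun e => H.two (by linear_combination -e)).1 this

theorem pb [Finite F] (hQ : QNondeg Q) (hA : A = Finset.univ ∨ Even (Fintype.card ι) ∧ ∃ i, A = {i}ᶜ) :
    PB (commutator (H12.orth Q) ⧸ center (commutator (H12.orth Q))) := by
  have := Module.Finite.of_basis b
  have c5 : 5 ≤ Fintype.card ι := H.five.trans (Finset.card_le_univ A)
  have cen := mem_center_omega_iff hQ (notExc_of_two_ne_zero H.two) (by rw [finrank_eq_card_basis b]; omega)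
  have p2 : ∀ g : H12.orth Q, ∀ ε, Mon b g 1 ε → g * g = 1 := fun g ε hg => by
    obtain ⟨J, hg⟩ := H.exists_sg hg
    exact (hg.mul hg).ext (h := 1) (η := 1) (fun k => by simp) (one_mul _) fun k => by
      simp only [sg]; split_ifs <;> simp_all
  let B : Subgroup (commutator (H12.orth Q)) :=
    { carrier := {g | ∃ ε, Mon b g.1 1 ε}
      mul_mem' := fun ⟨_, h1⟩ ⟨_, h2⟩ => ⟨_, (h1.mul h2).congr (one_mul _) fun _ => rfl⟩
      one_mem' := ⟨1, fun k => by simp⟩
      inv_mem' := fun {g} ⟨ε, h⟩ => ⟨ε, by rwa [coe_inv, inv_eq_of_mul_eq_one_right (p2 _ _ h)]⟩ }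
  refine PB.quot B (isPGroup_of_pow (n := 1) fun x ⟨ε, h⟩ => Subtype.ext (by
    simpa [pow_two] using p2 _ _ h)) fun g h1 _ => ?_
  have k1 : ∀ i ∈ A, ∀ j ∈ A, i ≠ j → ∀ z y, b.repr (g.1.1 (b z)) y * sg F {i, j} z =
      b.repr (g.1.1 (b z)) y * sg F {i, j} y := fun i hi j hj ij => by
    obtain ⟨d, hd⟩ := H.exists_mon {i, j}
    have m := H.mem_om (by simp [Finset.insert_subset_iff, hi, hj]) (by simp [Finset.card_pair ij]) hd
    obtain ⟨a, ha⟩ := (cen _).1 (h1 ⟨d, m⟩ ⟨_, hd⟩)
    have r : ∀ x y, b.repr (d.1 x) y = b.repr x y * sg F {i, j} y := fun x y => by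
      conv_lhs => rw [← b.sum_repr x, map_sum, map_sum, Finset.sum_apply', Finset.sum_eq_single y
        (fun k _ e => by simp [hd k, e]) (by simp)]
      simp [hd y]
    have e : ∀ z y, b.repr (g.1.1 (b z)) y * sg F {i, j} z =
        a * (b.repr (g.1.1 (b z)) y * sg F {i, j} y) := fun z y => by
      have := ha (d.1 (g.1.1 (b z)))
      simp only [coe_mul, coe_inv, orth_mul_apply, orth_inv_apply'] at this
      have := congrArg (b.repr · y) this
      simpa [hd z, r, mul_comm] using this
    rcases scalar_sq_of_orth ha (H.ne i) with rfl | rfl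
    · simpa using e
    exfalso
    have li : LinearIndependent F fun z : ({i, j}ᶜ : Finset ι) => g.1.1 (b z) :=
      (b.linearIndependent.comp _ Subtype.val_injective).map' (g.1.1 : V →ₗ[F] V) (LinearEquiv.ker _)
    classical
    have := linearIndependent_le_span_aux' _ li (({i, j} : Finset ι).image b : Finset V) (by
      rintro _ ⟨⟨z, hz⟩, rfl⟩
      rw [Finset.coe_image, SetLike.mem_coe, b.mem_span_image]
      intro y hy
      by_contra l
      have := e z y
      simp only [sg, Finset.mem_compl.1 hz, mt Finset.mem_coe.2 l, if_false] at this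
      exact Finsupp.mem_support_iff.1 hy (mul_left_cancel₀ H.two (by linear_combination this)))
    simp only [Finset.coe_sort_coe, Fintype.card_coe, Finset.card_compl] at this
    have := Finset.card_image_le (s := {i, j}) (f := b)
    have := Finset.card_le_two (a := i) (b := j)
    omega
  have k2 : Mon b g.1 1 fun k => b.repr (g.1.1 (b k)) k := fun z => b.repr.injective (Finsupp.ext fun y => by
    by_cases e : z = y
    · simp [e]
    rw [map_smul, Perm.one_apply, b.repr_self, Finsupp.smul_apply, Finsupp.single_eq_of_ne (Ne.symm e), smul_zero]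
    obtain ⟨j, hj⟩ := Finset.card_pos.1 (show 0 < (A \ {z, y}).card by
      have := Finset.le_card_sdiff {z, y} A
      have := Finset.card_le_two (a := z) (b := y)
      have := H.five
      omega)
    simp only [Finset.mem_sdiff, Finset.mem_insert, Finset.mem_singleton, not_or] at hj
    have : z ∈ A ∨ y ∈ A := by
      rcases hA with rfl | ⟨-, i, rfl⟩
      · simp
      · simp only [Finset.mem_compl, Finset.mem_singleton]; grind
    refine mul_left_cancel₀ H.two ?_
    rcases this with l | l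
    · have := k1 z l j hj.1 (Ne.symm hj.2.1) z y
      simp only [sg, Finset.mem_insert, Finset.mem_singleton, true_or, Ne.symm e, Ne.symm hj.2.2, or_self,
        if_true, if_false] at this
      linear_combination -this
    · have := k1 y l j hj.1 (Ne.symm hj.2.2) z y
      simp only [sg, Finset.mem_insert, Finset.mem_singleton, true_or, e, Ne.symm hj.2.1, or_self,
        if_true, if_false] at this
      linear_combination this)
  obtain ⟨J, hJ⟩ := H.exists_sg k2
  have ev := H.even hJ g.2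
  by_cases JA : J ⊆ A
  · exact ⟨g, by simp, H.sq JA ev hJ⟩
  obtain ⟨e2, i, rfl⟩ := hA.resolve_left fun e => JA (e ▸ J.subset_univ)
  have JA' : Jᶜ ⊆ {i}ᶜ := Finset.compl_subset_compl.2 (Finset.singleton_subset_iff.2 (by
    by_contra l
    exact JA (Finset.subset_compl_singleton.2 l)))
  have ev' : Even Jᶜ.card := by
    rw [Finset.card_compl, Nat.even_sub (Finset.card_le_univ J)]; tauto
  obtain ⟨d, hd⟩ := H.exists_mon Jᶜ
  refine ⟨⟨d, H.mem_om JA' ev' hd⟩, (cen _).2 ⟨-1, fun x => ?_⟩, H.sq JA' ev' hd⟩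
  rw [coe_mul, coe_inv, inv_eq_of_mul_eq_one_right (p2 _ _ hJ),
    (hJ.mul hd).ext (h := H11.negOne Q) (η := -1) (fun k => by simp) (one_mul _) fun k => by
      simp only [sg, Finset.mem_compl, Perm.one_apply]; split_ifs <;> simp_all]
  simp

end OB

theorem pb_orth [Finite F] [FiniteDimensional F V] (h2 : (2 : F) ≠ 0) (hQ : QNondeg Q) (h6 : 6 ≤ finrank F V) :
    PB (commutator (orth Q) ⧸ center (commutator (orth Q))) := by
  obtain ⟨n, hn⟩ : ∃ n, finrank F V = n + 1 := ⟨finrank F V - 1, by omega⟩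
  rcases Nat.even_or_odd (finrank F V) with h | h
  · obtain ⟨b, h1, h3, h4⟩ := exists_orth_basis h2 hQ one_ne_zero hn
    refine OB.pb (b := b) (A := {Fin.last n}ᶜ) (c := 1) ⟨h2, h1, fun i => ?_, fun i hi => h3 i (by simpa using hi),
      by simp [Finset.card_compl]; omega⟩ hQ (.inr ⟨by simpa [hn] using h, _, rfl⟩)
    by_cases e : i = Fin.last n
    · exact e ▸ h4
    · exact (h3 i e).trans_ne one_ne_zero
  · let W := weightedSumSquares F fun _ : Fin (n + 1) => (1 : F)
    have pW : ∀ i v, polar W (Pi.single i 1) v = 2 * v i := fun i v => by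
      simp only [W, polar, weightedSumSquares_apply, ← Finset.sum_sub_distrib]
      rw [Finset.sum_eq_single i (fun j _ e => by simp [e]) (by simp)]
      simp; ring
    have hW : QNondeg W := fun x hx => funext fun i => mul_left_cancel₀ h2 (by
      rw [← pW, polar_comm]; exact (hx _).trans (by simp))
    obtain ⟨c, c0, e⟩ := quad_odd_iso h2 hQ hW h (by simp [hn])
    obtain ⟨e, he⟩ := quad_iso_iff.1 e.symm
    replace he : ∀ x, Q (e x) = c * W x := he
    have q : ∀ i, Q ((Pi.basisFun F _).map e i) = c := fun i => by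
      simp [he, W, weightedSumSquares_apply, Pi.single_apply]
    refine OB.pb (b := (Pi.basisFun F _).map e) (A := Finset.univ) (c := c) ⟨h2, fun i j l => ?_,
      fun i => (q i).trans_ne c0, fun i _ => q i, by simp; omega⟩ hQ (.inl rfl)
    have := pW i (Pi.single j 1)
    simp only [polar, Basis.map_apply, ← map_add, he, Pi.basisFun_apply] at this ⊢
    rw [← mul_sub, ← mul_sub, this]
    simp [l]

variable [Fintype F] (h2 : (2 : F) ≠ 0)
include h2

theorem pb_omOdd {m : ℕ} (hm : 3 ≤ m) : PB (POmega F (quadFormOdd m F)) :=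
  (pb_orth h2 (qOdd_nondeg h2 m) (by simp; omega)).of_equiv (pomegaEquiv _ (coe_qOdd m)).symm

theorem pb_omPlus {m : ℕ} (hm : 3 ≤ m) : PB (POmega F (quadFormPlus m F)) :=
  (pb_orth h2 (qPlus_nondeg m) (by simp; omega)).of_equiv (pomegaEquiv _ (coe_qPlus m)).symm

theorem pb_omMinus {m : ℕ} (hm : 2 ≤ m) {a b : F}
    (hab : ∀ z₁ z₂ : F, z₁ ^ 2 + a * z₁ * z₂ + b * z₂ ^ 2 = 0 → z₁ = 0 ∧ z₂ = 0) :
    PB (POmega F (quadFormMinus m F a b)) :=
  (pb_orth h2 (qMinus_nondeg m (disc_ne_zero_of_aniso hab)) (by simp; omega)).of_equiv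
    (pomegaEquiv _ (coe_qMinus m a b)).symm

end H20.Y
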