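/-
A generalized quaternion subgroup of `SL₂(q)` normalized by `diag(1, -1)`.
-/
import Cfsg.Agent.H20.Y.B2

set_option autoImplicit false
set_option linter.unusedSectionVars false

namespace H20.Y
open Subgroup Matrix
open scoped MatrixGroups

theorem exists_sub {X : Type*} [Group X] (M : Submonoid X) (h : ∀ x ∈ M, ∃ n, x ^ 2 ^ n = 1) :
    ∃ B : Subgroup X, IsPGroup 2 B ∧ ∀ x, x ∈ B ↔ x ∈ M := by
  refine ⟨⟨M, fun {x} hx => ?_⟩, fun x => (h x x.2).imp fun n e => Subtype.ext e, fun _ => Iff.rfl⟩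
  obtain ⟨n, e⟩ := h x hx
  have : x⁻¹ = x ^ (2 ^ n - 1) := inv_eq_of_mul_eq_one_right (by
    rw [← pow_succ', Nat.sub_add_cancel Nat.one_le_two_pow, e])
  exact this ▸ M.pow_mem hx _

theorem two_mul {M : Type*} [Monoid M] {x y : M} (c : Commute x y) (hx : ∃ n, x ^ 2 ^ n = 1)
    (hy : ∃ n, y ^ 2 ^ n = 1) : ∃ n, (x * y) ^ 2 ^ n = 1 := by
  obtain ⟨n, hx⟩ := hx
  obtain ⟨m, hy⟩ := hy
  refine ⟨n + m, ?_⟩
  rw [c.mul_pow, pow_add, pow_mul, hx, mul_comm (2 ^ n), pow_mul, hy]; simp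

theorem pg_closure {X : Type*} [Group X] {A : Set X} (c : ∀ x ∈ A, ∀ y ∈ A, x * y = y * x)
    (h : ∀ x ∈ A, ∃ n, x ^ 2 ^ n = 1) : IsPGroup 2 (closure A) := by
  have := isMulCommutative_closure c
  rintro ⟨x, hx⟩
  suffices ∃ n, x ^ 2 ^ n = 1 from this.imp fun n e => Subtype.ext e
  induction hx using closure_induction with
  | mem x hx => exact h x hx
  | one => exact ⟨0, by simp⟩
  | mul x y hx hy h1 h2 => exact two_mul (congrArg Subtype.val (this.1.1 ⟨x, hx⟩ ⟨y, hy⟩)) h1 h2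
  | inv x _ h => exact h.imp fun n e => by rw [inv_pow, e, inv_one]

variable {F : Type*} [Field F]

def zz (a b : F) : M2 F := !![a, b; -b, a]
def dl (F : Type*) [Field F] : M2 F := !![1, 0; 0, -1]

theorem zz_mul (a b c d : F) : zz a b * zz c d = zz (a * c - b * d) (a * d + b * c) := by
  ext i j; fin_cases i <;> fin_cases j <;> simp [zz] <;> ring

theorem dl_dl : dl F * dl F = 1 := by ext i j; fin_cases i <;> fin_cases j <;> simp [dl]

theorem dl_zz (a b : F) : dl F * zz a b * dl F = zz a (-b) := by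
  ext i j; fin_cases i <;> fin_cases j <;> simp [dl, zz]

/-- conjugation by `diag(1, -1)` -/
def al : SL(2, F) →* SL(2, F) where
  toFun g := ⟨dl F * g.1 * dl F, by rw [det_mul, det_mul, g.2]; simp [dl, det_fin_two]⟩
  map_one' := Subtype.ext (by simp [dl_dl])
  map_mul' g h := Subtype.ext (by
    change _ * (g.1 * h.1) * _ = _ * g.1 * _ * (_ * h.1 * _)
    simp only [mul_assoc]; rw [← mul_assoc (dl F) (dl F), dl_dl, one_mul])

def sI (F : Type*) [Field F] : SL(2, F) := ⟨qI F, by simp [qI, det_fin_two]⟩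

theorem exists_zz [Finite F] : ∃ a b : F, a ^ 2 + b ^ 2 = -1 ∧ ∃ n, zz a b ^ 2 ^ n = 1 := by
  obtain ⟨a, b, h⟩ := exists_ab (K := F)
  have d : ∀ a b : F, (zz a b).det = a ^ 2 + b ^ 2 := fun a b => by simp [zz, det_fin_two]; ring
  obtain ⟨u, hu⟩ : IsUnit (zz a b) := (isUnit_iff_isUnit_det _).2 (by rw [d, h]; exact isUnit_one.neg)
  obtain ⟨n, o, ho, e⟩ := Nat.exists_eq_two_pow_mul_odd (orderOf_pos u).ne'
  have k : ∀ m : ℕ, ∃ c d, zz a b ^ m = zz c d := fun m => by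
    induction m with
    | zero => exact ⟨1, 0, by simp [zz, one_fin_two]⟩
    | succ m ih => obtain ⟨c, d, e⟩ := ih; exact ⟨_, _, by rw [pow_succ, e, zz_mul]⟩
  obtain ⟨x, y, f⟩ := k o
  refine ⟨x, y, by rw [← d, ← f, det_pow, d, h, ho.neg_one_pow], n, ?_⟩
  rw [← f, ← pow_mul, mul_comm, ← e, ← hu, ← Units.val_pow_eq_pow_val, pow_orderOf_eq_one, Units.val_one]

theorem exists_D [Finite F] : ∃ D : Subgroup SL(2, F), IsPGroup 2 D ∧ (∀ g ∈ D, al g ∈ D) ∧ sI F ∈ D ∧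
    ∃ J ∈ D, sI F * J = sI F * sI F * J * sI F := by
  let Z : M2 F → Prop := fun m => (∃ a b, m = zz a b) ∧ ∃ n, m ^ 2 ^ n = 1
  have z1 : ∀ m n, Z m → Z n → Z (m * n) := by
    rintro _ _ ⟨⟨a, b, rfl⟩, h1⟩ ⟨⟨c, d, rfl⟩, h2⟩
    refine ⟨⟨_, _, zz_mul ..⟩, two_mul ?_ h1 h2⟩
    rw [Commute, SemiconjBy, zz_mul, zz_mul]; congr 1 <;> ring
  have z2 : ∀ m, Z m → Z (dl F * m * dl F) := by
    rintro _ ⟨⟨a, b, rfl⟩, n, h⟩
    refine ⟨⟨_, _, dl_zz ..⟩, n, ?_⟩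
    have := Units.conj_pow ⟨dl F, dl F, dl_dl, dl_dl⟩ (zz a b) (2 ^ n)
    simpa [h, dl_dl] using this
  have dd : ∀ m : M2 F, dl F * (dl F * m) = m := fun m => by rw [← mul_assoc, dl_dl, one_mul]
  have z3 : ∀ m n, Z (m * dl F) → Z (n * dl F) → Z (m * n) := fun m n h1 h2 => by
    simpa only [mul_assoc, dd, dl_dl, mul_one] using z1 _ _ h1 (z2 _ h2)
  let M : Submonoid SL(2, F) :=
    { carrier := {g | Z g.1 ∨ Z (g.1 * dl F)}
      mul_mem' := fun {g h} h1 h2 => by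
        change Z (g.1 * h.1) ∨ Z (g.1 * h.1 * _)
        rcases h1 with h1 | h1 <;> rcases h2 with h2 | h2
        · exact .inl (z1 _ _ h1 h2)
        · exact .inr (mul_assoc g.1 _ _ ▸ z1 _ _ h1 h2)
        · exact .inr (by simpa only [mul_assoc, dd] using z1 _ _ h1 (z2 _ h2))
        · exact .inl (z3 _ _ h1 h2)
      one_mem' := .inl ⟨⟨1, 0, by simp [zz, one_fin_two]⟩, 0, by simp⟩ }
  obtain ⟨D, h1, h2⟩ := exists_sub M fun g hg => by
    rcases hg with ⟨-, n, h⟩ | h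
    · exact ⟨n, Subtype.ext (by simpa using h)⟩
    · obtain ⟨-, n, h⟩ := z3 _ _ h h
      exact ⟨n + 1, Subtype.ext (by simpa [pow_succ', pow_mul, pow_two] using h)⟩
  obtain ⟨a, b, h, k⟩ := exists_zz (F := F)
  refine ⟨D, h1, fun g hg => (h2 _).2 (((h2 _).1 hg).imp (z2 _) fun l => ?_),
    (h2 _).2 (.inl ⟨⟨0, 1, by simp [sI, qI, zz]⟩, 2, (inQ_I a b).pow h⟩),
    ⟨zz a b * dl F, by simp [zz, dl, det_fin_two]; linear_combination -h⟩,
    (h2 _).2 (.inr ⟨⟨a, b, by simp [mul_assoc, dl_dl]⟩, by simpa [mul_assoc, dl_dl] using k⟩), Subtype.ext ?_⟩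
  · change Z (dl F * g.1 * dl F * dl F)
    simpa only [mul_assoc] using z2 _ l
  · change qI F * (zz a b * dl F) = qI F * qI F * (zz a b * dl F) * qI F
    ext i j; fin_cases i <;> fin_cases j <;> simp [qI, zz, dl]

end H20.Y
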