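/-
Exceptional groups in odd characteristic: involutions centralizing a suitable 2-subgroup.
-/
import Cfsg.Agent.H20.Y.C1
import Cfsg.Agent.H14.Conn

set_option autoImplicit false
set_option linter.unusedSectionVars false

namespace H20.Y
open Subgroup Matrix H14 H14.RootSys H14.PreSt H14.St
open scoped MatrixGroups

variable {ι κ : Type*} [Fintype κ] [DecidableEq κ] [Fintype ι] [DecidableEq ι] {R : RootSys ι κ}
  {C : Chev R} {K G : Type*} [Field K] [Group G] {S : St C K G}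

/-- pairing of a coroot with the simple roots -/
def pv (R : RootSys ι κ) (s : ι) (j : κ) : ℤ := ∑ i, R.co s i * R.A i j

theorem pair_pv (s r : ι) : R.pair s r = ∑ j, pv R s j * R.cf r j := by
  rw [pair, wt, dotProduct_mulVec]; rfl

theorem pv_eq (s : ι) (j : κ) : R.pair s (R.simple j) = pv R s j := by
  simp [pair_pv, R.cf_simple, Pi.single_apply]

/-- the combinatorial data -/
structure Chk (R : RootSys ι κ) (ρ : Equiv.Perm ι) (π : Equiv.Perm κ) (θ : ι) (L : List (ι × ℤ))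
    (Q : List ι) (e : ℤ) : Prop where
  fix : ∀ β ∈ L, ρ β.1 = β.1 ∧ R.pair θ β.1 ≠ 0
  mem : ∃ a, (θ, a) ∈ L
  odd : ∀ r, ∃ β ∈ L, (∑ j, pv R β.1 j * R.cf r j) % 2 = 1
  uniq : ∀ β ∈ L, ∀ r, ρ r = r → R.d r = R.d β.1 → (∀ j, pv R r j % 2 = pv R β.1 j % 2) →
    r = β.1 ∨ r = R.neg β.1
  one : ∃ β ∈ L, R.pair θ β.1 = 1
  reg : ∀ j, 0 < (L.map fun β => β.2 * pv R β.1 j).sum
  le : ∀ r, R.d r ≤ e
  fixQ : ∀ s ∈ Q, ρ s = s ∧ ∃ j, pv R s j % 2 = 1
  orth : (θ :: Q).Pairwise fun r s => R.pair r s = 0 ∧ e < R.d r + R.d s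
  fin : ∀ ε : κ → Bool, (∀ j, ε (π j) = ε j) → (∀ s ∈ θ :: Q, (∑ j, if ε j then R.cf s j else 0) % 2 = 0) →
    ∃ M ∈ (θ :: Q).sublists, ∀ j, (M.map (pv R · j)).sum % 2 = if ε j then 1 else 0

theorem comm_x (S : St C K G) {e : ℤ} (he : ∀ r, R.d r ≤ e) {r s : ι} (h : R.pair r s = 0 ∧ e < R.d r + R.d s)
    {u v : G} (hu : u ∈ S.U {r, R.neg r}) (hv : v ∈ S.U {s, R.neg s}) : Commute u v := by
  refine S.commute_U (fun a ha b hb => ?_) u hu v hv
  have k : R.pair a b = 0 ∧ e < R.d a + R.d b := by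
    rcases ha with rfl | rfl <;> rcases hb with rfl | rfl <;> simp [pair_neg_left, pair_neg_right, d_neg, h]
  refine commute_of_not _ ?_ fun l => ?_
  · rintro rfl
    simp [pair_neg_right, pair_self] at k
  · have := l.norm
    have := he (R.plus a b)
    simp_all; omega

theorem mem_N (hh : S.HMul) (hS : S.Sep) (hG : S.U Set.univ = ⊤) {g : G}
    (h : ∀ r, ∃ c, Commute (hh.tor c) g ∧ R.chi c r ≠ 1) : g ∈ S.N := by
  obtain ⟨u', h1, n, w, h2, -, u, h3, rfl⟩ := hh.cent_bruhat hS hG (c := 1) (g := g) (by simp)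
  replace h1 := U_mono (fun _ h => h.1 : _ ⊆ {r | R.pos r}) h1
  replace h3 := U_mono (fun _ h => h.1 : _ ⊆ {r | R.pos r ∧ ¬ R.pos (w r)}) h3
  have k : ∀ c, Commute (hh.tor c) (u' * n * u) → Commute (hh.tor c) u' ∧ Commute (hh.tor c) u := fun c e => by
    have m : hh.tor c ∈ S.H := hh.range_tor.le ⟨c, rfl⟩
    have m' : hh.tor c * (n * (hh.tor c)⁻¹ * n⁻¹) ∈ S.H := mul_mem m (N_conj_mem_H (NW.mem_N h2) (inv_mem m))
    obtain ⟨e1, e2⟩ := canonical_unique hS h2 (U_le_B h1) (mul_mem (U_le_B (H_conj_mem_U m h1)) (H_le_B m'))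
      h3 (H_conj_mem_U m h3) (by rw [← e.mul_inv_cancel]; group)
    refine ⟨?_, mul_inv_eq_iff_eq_mul.1 e2.symm⟩
    have := hS.eq_one_of_mem_H (mul_mem (inv_mem (H_conj_mem_U m h1)) h1) (by
      rwa [← eq_inv_mul_iff_mul_eq.2 e1.symm])
    exact mul_inv_eq_iff_eq_mul.1 (inv_mul_eq_one.1 this)
  have z : ∀ v ∈ S.U {r | R.pos r}, (∀ r, ∃ c, Commute (hh.tor c) v ∧ R.chi c r ≠ 1) → v = 1 := fun v hv l => by
    classical
    obtain ⟨t, rfl⟩ := exists_prod closed_pos (htf κ) (fun _ => htf_pos)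
      (Finset.nodup_toList (Finset.univ.filter R.pos)) (by simp) hv
    refine List.prod_eq_one (List.forall_mem_map.2 fun r hr => ?_)
    obtain ⟨c, c1, c2⟩ := l r
    rw [hS.eq_zero_of_mem (A := {r | r ∈ {r | R.pos r} ∧ R.chi c r = 1}) (fun r hr s hs k i j hi hj e =>
        ⟨closed_pos r hr.1 s hs.1 k i j hi hj e, by simp [chi_comb c e, hr.2, hs.2]⟩) (htf κ)
      (Finset.nodup_toList _) (fun r hr => htf_pos (by simpa using hr)) (fun r hr => by simpa using hr.1)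
      (hh.mem_U_of_commute hS closed_pos (htf κ) (fun _ => htf_pos) hv c1) r hr fun l => c2 l.2, x_zero]
  rw [z u' h1 fun r => (h r).imp fun c l => ⟨(k c l.1).1, l.2⟩,
    z u (U_mono (fun _ h => h.1) h3) fun r => (h r).imp fun c l => ⟨(k c l.1).2, l.2⟩, one_mul, mul_one]
  exact NW.mem_N h2

theorem chi_h (r s : ι) (t : Kˣ) : R.chi (fun j => t ^ R.co r j) s = t ^ R.pair r s := chi_zpow ..

theorem neg_one_zpow_eq (h2 : (2 : K) ≠ 0) {a b : ℤ} : (-1 : Kˣ) ^ a = (-1) ^ b ↔ a % 2 = b % 2 := by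
  have : orderOf (-1 : Kˣ) = 2 := orderOf_eq_prime (by simp) fun e => h2 (by
    have : (-1 : K) = 1 := congrArg Units.val e
    linear_combination -this)
  rw [zpow_eq_zpow_iff_modEq, this]; rfl

theorem neg_one_zpow_one (h2 : (2 : K) ≠ 0) {a : ℤ} : (-1 : Kˣ) ^ a = 1 ↔ a % 2 = 0 := by
  simpa using neg_one_zpow_eq h2 (a := a) (b := 0)

theorem chi_eq (c : κ → Kˣ) (r : ι) : R.chi c r = ∏ j, R.chi c (R.simple j) ^ R.cf r j := by
  simp [chi, prod_wt, R.cf_simple, Pi.single_apply]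

theorem tor_eq (hh : S.HMul) (hS : S.Sep) (hG : S.U Set.univ = ⊤) (hZ : center G = ⊥) {c d : κ → Kˣ}
    (h : ∀ j, R.chi c (R.simple j) = R.chi d (R.simple j)) : hh.tor c = hh.tor d := by
  rw [← div_eq_one, ← map_div, ← mem_bot, ← hZ, hh.tor_mem_center hS hG, map_div, div_eq_one]
  funext j
  simpa [chi, prod_wt, R.cf_simple, Pi.single_apply] using h j

theorem eq_one_of_fix {w : Equiv.Perm ι} (hw : w ∈ R.W) {L : List (ι × ℤ)} (h : ∀ β ∈ L, w β.1 = β.1)
    (hr : ∀ j, 0 < (L.map fun β => β.2 * pv R β.1 j).sum) : w = 1 := by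
  refine R.eq_one_of_pos_simple hw fun i => ?_
  by_contra k
  have e : ∀ r, (L.map fun β => β.2 * R.pair β.1 r).sum =
      ∑ j, (L.map fun β => β.2 * pv R β.1 j).sum * R.cf r j := fun r => by
    clear h hr
    induction L with
    | nil => simp
    | cons a L ih =>
      simp only [List.map_cons, List.sum_cons, ih]
      simp [pair_pv, add_mul, Finset.sum_add_distrib, Finset.mul_sum, mul_assoc]
  have e1 : (L.map fun β => β.2 * R.pair β.1 (w (R.simple i))) = L.map fun β => β.2 * pv R β.1 i :=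
    List.map_congr_left fun β hβ => by rw [← pv_eq, ← Aut.pair_eq (R.W_le_Aut hw) β.1 (R.simple i), h β hβ]
  have := e (w (R.simple i))
  rw [e1] at this
  exact (hr i).not_ge (this ▸ Finset.sum_nonpos fun j _ =>
    mul_nonpos_of_nonneg_of_nonpos (hr j).le ((not_pos_iff _ _).1 k j))

theorem sl_ind {F : Type*} [Field F] {P : SL(2, F) → Prop}
    (h1 : ∀ c, P (SpecialLinearGroup.transvection zero_ne_one c))
    (h2 : ∀ c, P (SpecialLinearGroup.transvection one_ne_zero c)) (h3 : ∀ a b, P a → P b → P (a * b)) (g) :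
    P g := by
  refine SL2.transvection_induction P (fun i j h c => ?_) h3 g
  fin_cases i <;> fin_cases j
  exacts [absurd rfl h, h1 c, h2 c, absurd rfl h]

theorem exists_psi (hh : S.HMul) (θ : ι) {F : Type*} [Field F] (f : F →+* K) : ∃ ψ : SL(2, F) →* G,
    (∀ c, ψ (SpecialLinearGroup.transvection zero_ne_one c) = S.x θ (f c)) ∧
    (∀ c, ψ (SpecialLinearGroup.transvection one_ne_zero c) = S.x (R.neg θ) (f c)) ∧ ψ (sI F) = S.n θ 1 := by
  obtain ⟨ψ, -, h⟩ := exists_SL2 θ (hh θ)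
  have a : ∀ c, ψ (SpecialLinearGroup.map f (SpecialLinearGroup.transvection zero_ne_one c)) = S.x θ (f c) :=
    fun c => (h _ _).1 (by ext i j; fin_cases i <;> fin_cases j <;> simp [SpecialLinearGroup.transvection_coe])
  have b : ∀ c, ψ (SpecialLinearGroup.map f (SpecialLinearGroup.transvection one_ne_zero c)) =
      S.x (R.neg θ) (f c) :=
    fun c => (h _ _).2 (by ext i j; fin_cases i <;> fin_cases j <;> simp [SpecialLinearGroup.transvection_coe])
  refine ⟨ψ.comp (SpecialLinearGroup.map f), a, b, ?_⟩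
  rw [show sI F = SpecialLinearGroup.transvection zero_ne_one 1 * SpecialLinearGroup.transvection one_ne_zero (-1) *
    SpecialLinearGroup.transvection zero_ne_one 1 from Subtype.ext (by
      ext i j; fin_cases i <;> fin_cases j <;>
        simp [sI, qI, SpecialLinearGroup.transvection_coe, Matrix.mul_apply, Fin.sum_univ_two]), map_mul, map_mul]
  simp [a, b, PreSt.n]

theorem al_t {F : Type*} [Field F] {i j : Fin 2} (h : i ≠ j) (c : F) :
    al (SpecialLinearGroup.transvection h c) = SpecialLinearGroup.transvection h (-c) := Subtype.ext (by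
  change dl F * (1 + single i j c) * dl F = 1 + single i j (-c)
  fin_cases i <;> fin_cases j <;> first | exact absurd rfl h | skip
  all_goals ext i j; fin_cases i <;> fin_cases j <;> simp [dl, Matrix.mul_apply, Fin.sum_univ_two, vecMul, dotProduct])

theorem h_sq (hh : S.HMul) (r : ι) : S.h r (-1) * S.h r (-1) = 1 := by
  rw [hh r _ _ (by simp) (by simp)]; simp

theorem h_eq_n (r : ι) : S.h r (-1) = (S.n r 1)⁻¹ * (S.n r 1)⁻¹ := by rw [n_inv, PreSt.h]

theorem pb_tw (T : S.Tw) (hh : S.HMul) (hZ : center G = ⊥) {p : ℕ} [Fact p.Prime] [CharP K p] (h2 : (2 : K) ≠ 0)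
    (hf : ∀ r, T.ρ r = r → T.f r 1 = 1) {θ : ι} {L : List (ι × ℤ)} {Q : List ι} {e : ℤ}
    (c : Chk R T.ρ T.π θ L Q e) : PB T.fix := by
  have hS := T.sep
  have hG := T.top
  have fx : ∀ r, T.ρ r = r → ∀ n : ℤ, S.x r n ∈ T.fix := fun r hr n => by
    have := map_zsmul (AddMonoidHom.mk' (T.f r) (T.f_add r)) n 1
    simp only [zsmul_eq_mul, mul_one, AddMonoidHom.mk'_apply, hf r hr] at this
    rw [T.mem_fix, T.σ_x, hr, this]
  have fn : ∀ r, T.ρ r = r → S.n r 1 ∈ T.fix := fun r hr => by rw [T.mem_fix, T.σ_n r one_ne_zero, hr, hf r hr]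
  obtain ⟨a, θL⟩ := c.mem
  have θf := (c.fix _ θL).1
  obtain ⟨ψ, p1, p2, p3⟩ := exists_psi hh θ (ZMod.castHom (dvd_refl p) K)
  obtain ⟨D, D1, D2, D3, J, D4, D5⟩ := exists_D (F := ZMod p)
  have ψf : ∀ g, ψ g ∈ T.fix := sl_ind
    (fun t => by obtain ⟨n, rfl⟩ := ZMod.intCast_surjective t; rw [p1, map_intCast]; exact fx _ θf n)
    (fun t => by
      obtain ⟨n, rfl⟩ := ZMod.intCast_surjective t
      rw [p2, map_intCast]; exact fx _ (by rw [T.ρ_neg, θf]) n)
    fun a b h1 h2 => map_mul ψ a b ▸ mul_mem h1 h2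
  have ψU : ∀ g, ψ g ∈ S.U {θ, R.neg θ} := sl_ind (fun t => p1 t ▸ x_mem_U (by simp) _)
    (fun t => p2 t ▸ x_mem_U (by simp) _) fun a b h1 h2 => map_mul ψ a b ▸ mul_mem h1 h2
  have chi2 : ∀ d, hh.tor d * hh.tor d = 1 → ∀ r, R.chi d r = 1 ∨ R.chi d r = -1 := fun d hd r => by
    have := hh.tor_mul_x (d * d) r 1
    rw [map_mul, hd, one_mul, mul_one, mul_one] at this
    have := hS.x_inj this
    simp only [Pi.mul_apply, mul_zpow, Finset.prod_mul_distrib, Units.val_mul] at this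
    exact (mul_self_eq_one_iff.1 this.symm).imp Units.ext Units.ext
  obtain ⟨E, E1, E2⟩ := exists_sub
    { carrier := {k | k ∈ S.H ∧ k * k = 1}
      mul_mem' := fun {a b} ha hb => ⟨mul_mem ha.1 hb.1, by
        rw [mul_assoc, ← mul_assoc b, hh.comm b hb.1 a ha.1, mul_assoc, hb.2, mul_one, ha.2]⟩
      one_mem' := ⟨one_mem _, one_mul 1⟩ } fun k hk => ⟨1, by simpa [pow_two] using hk.2⟩
  replace E2 : ∀ k, k ∈ E ↔ k ∈ S.H ∧ k * k = 1 := E2
  have NE : S.N ≤ normalizer (E : Set G) := by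
    have : ∀ g ∈ S.N, ∀ k ∈ E, g * k * g⁻¹ ∈ E := fun g hg k hk =>
      (E2 _).2 ⟨N_conj_mem_H hg ((E2 _).1 hk).1, by rw [conj_mul, ((E2 _).1 hk).2]; simp⟩
    exact fun g hg => mem_normalizer_iff.2 fun k =>
      ⟨this g hg k, fun l => by simpa [mul_assoc] using this _ (inv_mem hg) _ l⟩
  obtain ⟨o1, o2⟩ := List.pairwise_cons.1 c.orth
  have nU : ∀ r, S.n r 1 ∈ S.U {r, R.neg r} := fun r => n_mem_U (by simp) (by simp) 1
  let A := closure {g | ∃ s ∈ Q, g = S.n s 1}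
  have A1 : IsPGroup 2 A := pg_closure (by
    rintro _ ⟨r, hr, rfl⟩ _ ⟨s, hs, rfl⟩
    by_cases l : r = s
    · rw [l]
    have : Std.Symm fun r s => R.pair r s = 0 ∧ e < R.d r + R.d s :=
      ⟨fun a b h => ⟨(R.pair_eq_zero_iff _ _).1 h.1, add_comm (R.d a) _ ▸ h.2⟩⟩
    exact comm_x S c.le (o2.forall hr hs l) (nU r) (nU s)) (by
    rintro _ ⟨r, -, rfl⟩
    refine ⟨2, inv_eq_one.1 ?_⟩
    rw [← inv_pow, ← h_sq hh r, h_eq_n, show 2 ^ 2 = 2 + 2 from rfl, pow_add, pow_two])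
  have AN : A ≤ S.N := (closure_le _).2 (by rintro _ ⟨r, -, rfl⟩; exact n_mem_N r one_ne_zero)
  have B1 : IsPGroup 2 ↥(D.map ψ ⊔ (E ⊔ A)) := by
    refine (D1.map ψ).to_sup_of_normal_left' (E1.to_sup_of_normal_left' A1 (AN.trans NE))
      (sup_le (fun k hk => ?_) ((closure_le _).2 ?_))
    · obtain ⟨⟨d, rfl⟩, k2⟩ := (hh.range_tor ▸ (E2 k).1 hk : k ∈ hh.tor.range ∧ _)
      have : Finite (D.map ψ : Set G) := (Set.toFinite _).image _
      refine mem_normalizer_fintype ?_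
      rintro _ ⟨g, hg, rfl⟩
      rcases chi2 d k2 θ with l | l
      · refine ⟨g, hg, ?_⟩
        rw [(hh.commute_U (A := {θ, R.neg θ}) (by simp [chi_neg, l]) (mem_sup_left (ψU g))).eq,
          mul_inv_cancel_right]
      · refine ⟨al g, D2 g hg, sl_ind (P := fun g => ψ (al g) = hh.tor d * ψ g * (hh.tor d)⁻¹) (fun t => ?_)
          (fun t => ?_) (fun a b h1 h2 => by rw [map_mul, map_mul, h1, h2, map_mul, conj_mul]) g⟩
        · rw [al_t, p1, p1, hh.tor_conj, ← chi, l]; simp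
        · rw [al_t, p2, p2, hh.tor_conj, ← chi, chi_neg, l]; simp
    · rintro _ ⟨s, hs, rfl⟩
      refine centralizer_le_normalizer _ ?_
      rintro _ ⟨g, -, rfl⟩
      exact comm_x S c.le (o1 s hs) (ψU g) (nU s)
  refine ⟨_, B1.comap_subtype (K := T.fix), fun ⟨u, uf⟩ hu u2 => ?_⟩
  replace u2 : u * u = 1 := congrArg Subtype.val u2
  replace hu : ∀ b ∈ D.map ψ ⊔ (E ⊔ A), b ∈ T.fix → Commute b u := fun b h1 h2 =>
    congrArg Subtype.val (hu ⟨b, h2⟩ h1)
  have cψ : ∀ g ∈ D, Commute (ψ g) u := fun g hg => hu _ (mem_sup_left ⟨g, hg, rfl⟩) (ψf g)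
  have cn : ∀ s ∈ θ :: Q, T.ρ s = s ∧ Commute (S.n s 1) u := by
    rintro s (_ | ⟨_, hs⟩)
    · exact ⟨θf, p3 ▸ cψ _ D3⟩
    · exact ⟨(c.fixQ s hs).1, hu _ (mem_sup_right (mem_sup_right (subset_closure ⟨s, hs, rfl⟩)))
        (fn s (c.fixQ s hs).1)⟩
  have he : ∀ r, S.h r (-1) = hh.tor fun j => (-1) ^ R.co r j := fun r => hh.h_eq r (-1)
  have ch : ∀ β ∈ L, Commute (hh.tor fun j => (-1) ^ R.co β.1 j) u := fun β hβ => he β.1 ▸
    hu _ (mem_sup_right (mem_sup_left ((E2 _).2 ⟨h_mem_H _ (by simp), h_sq hh _⟩))) (by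
      rw [h_eq_n]; exact mul_mem (inv_mem (fn _ (c.fix β hβ).1)) (inv_mem (fn _ (c.fix β hβ).1)))
  obtain ⟨w, hw⟩ := exists_NW_of_N (mem_N hh hS hG (g := u) fun r => by
    obtain ⟨β, hβ, l⟩ := c.odd r
    refine ⟨_, ch β hβ, fun k => ?_⟩
    rw [chi_h, neg_one_zpow_one h2, pair_pv, l] at k
    omega)
  have wA := NW.mem_Aut hw
  have w1 : ∀ β ∈ L, w β.1 = β.1 ∨ w β.1 = R.neg β.1 := fun β hβ =>
    c.uniq β hβ _ (by rw [T.W1_apply (T.NW_W1 hw uf), (c.fix β hβ).1]) (Aut.d_eq wA _) fun j => by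
      have := hh.chi_of_commute hS (NW.inv hw) (ch β hβ).inv_right (R.simple j)
      rw [chi_h, chi_h, neg_one_zpow_eq h2, ← Aut.pair_eq wA] at this
      simpa [pv_eq] using this
  obtain ⟨β, hβ, β1⟩ := c.one
  have hinj : ∀ t : K, t ≠ 0 → S.h θ t = 1 → t = 1 := fun t ht l => by
    have := S.h_mul_x θ β.1 ht 1
    rw [l, one_mul, mul_one, β1] at this
    simpa using (hS.x_inj this).symm
  have w2 : w θ = θ := (w1 _ θL).resolve_right fun l => by
    have m := NW.mul hw (NW.inv (n_mem_NW θ one_ne_zero))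
    have m1 : (w * (R.refl θ)⁻¹) θ = θ := by
      rw [refl_inv, Equiv.Perm.mul_apply, refl_self, Aut.neg wA, l, R.neg_neg]
    have cu := (cn θ (by simp)).2
    have cv : Commute (u * (S.n θ 1)⁻¹) (S.n θ 1) := cu.symm.mul_left (Commute.refl _).inv_left
    obtain ⟨t, t0, e1, e2⟩ := NW.act2 m θ
    have e3 := e2 1
    rw [m1] at e1
    rw [m1, cv.eq, mul_left_inj, mul_one, n_eq_h_mul _ θ t, right_eq_mul] at e3
    obtain rfl := hinj t t0 e3
    have k1 : ∀ t, Commute (u * (S.n θ 1)⁻¹) (S.x θ t) := fun t => (e1 t).trans (by rw [one_mul])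
    have k2 : ∀ t, Commute (u * (S.n θ 1)⁻¹) (S.x (R.neg θ) t) := fun t => by
      obtain ⟨a, a0, l⟩ := NW.act (n_mem_NW (S := S.toPreSt) θ one_ne_zero) θ
      have := l (a⁻¹ * t)
      rw [mul_inv_cancel_left₀ a0, refl_self, ← mul_inv_eq_iff_eq_mul] at this
      exact this ▸ (cv.mul_right (k1 _)).mul_right cv.inv_right
    have k3 : Commute (u * (S.n θ 1)⁻¹) (ψ J) :=
      (U_le (M := centralizer {u * (S.n θ 1)⁻¹})).2 (by
        rintro r (rfl | rfl) t _ rfl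
        exacts [k1 t, k2 t]) (ψU J) _ rfl
    have k4 : Commute (S.n θ 1) (ψ J) := by
      have := ((cψ J D4).symm.inv_left.mul_left k3).inv_left
      simpa using this
    have := congrArg ψ D5
    simp only [map_mul, p3] at this
    rw [mul_assoc, ← k4.eq, right_eq_mul] at this
    refine h2 ?_
    linear_combination -hinj (-1) (by simp) (by rw [h_eq_n, ← _root_.mul_inv_rev, this, inv_one])
  obtain rfl : w = 1 := eq_one_of_fix (NW.mem_W hw) (fun β hβ => (w1 β hβ).resolve_right fun l => by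
    have := Aut.pair_eq wA θ β.1
    rw [w2, l, pair_neg_right] at this
    exact (c.fix β hβ).2 (by omega)) c.reg
  obtain ⟨d, rfl⟩ := hh.range_tor.ge (mem_H_of_NW hw)
  classical
  let ε : κ → Bool := fun j => R.chi d (R.simple j) = -1
  have n1 : (1 : Kˣ) ≠ -1 := fun l => by
    have := (neg_one_zpow_eq h2 (a := 0) (b := 1)).1 (by simpa using l)
    omega
  have χ1 : ∀ j, R.chi d (R.simple j) = (-1) ^ (if ε j then 1 else 0 : ℤ) := fun j => by
    rcases chi2 d u2 (R.simple j) with l | l <;> simp [ε, l, n1]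
  have χ2 : ∀ r, R.chi d r = (-1) ^ ∑ j, if ε j then R.cf r j else 0 := fun r => by
    rw [chi_eq, zpow_sum']
    exact Finset.prod_congr rfl fun j _ => by rw [χ1, ← _root_.zpow_mul]; congr 1; split_ifs <;> simp
  have χ3 : ∀ r, R.chi d (T.ρ r) = R.chi d r := fun r => by
    have := congrArg T.σ (hh.tor_conj d r 1)
    rw [map_mul, map_mul, map_inv, T.mem_fix.1 uf, T.σ_x, T.σ_x, hh.tor_conj, ← chi, ← chi, mul_one] at this
    have := hS.x_inj this
    refine Units.ext (mul_right_cancel₀ (T.f_ne (r := r) one_ne_zero) (this.trans ?_))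
    rcases chi2 d u2 r with l | l <;> simp [l]
    exact map_neg (AddMonoidHom.mk' (T.f r) (T.f_add r)) 1
  obtain ⟨M, hM, k⟩ := c.fin ε (fun j => by simp only [ε, ← T.ρ_simple, χ3]) fun s hs => by
    obtain ⟨r, hr⟩ : ∃ r, R.pair s r % 2 = 1 := by
      rcases hs with _ | ⟨_, hs⟩
      · exact ⟨β.1, by rw [β1]; rfl⟩
      · exact let ⟨j, l⟩ := (c.fixQ s hs).2; ⟨_, (pv_eq s j).symm ▸ l⟩
    have := hh.chi_of_commute hS (n_mem_NW s one_ne_zero) (cn s hs).2.symm r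
    rw [chi_comb d (r := r) (s := s) (a := 1) (b := -R.pair s r) (by rw [cf_refl]; simp [sub_eq_add_neg]),
      zpow_one, mul_eq_left, χ2, ← _root_.zpow_mul, neg_one_zpow_one h2, Int.mul_emod,
      show -R.pair s r % 2 = 1 by omega] at this
    omega
  intro P hP
  have key : ∀ M : List ι, (∀ s ∈ M, s ∈ θ :: Q) → ∃ v ∈ P, ∃ d', v.1 = hh.tor d' ∧
      ∀ j, R.chi d' (R.simple j) = (-1) ^ (M.map (pv R · j)).sum := fun M => by
    induction M with
    | nil => exact fun _ => ⟨1, one_mem _, 1, by simp, by simp [chi]⟩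
    | cons s M ih =>
      intro l
      obtain ⟨v, v1, d', v2, v3⟩ := ih fun r hr => l r (List.mem_cons_of_mem _ hr)
      obtain ⟨s1, s2⟩ := cn s (l s List.mem_cons_self)
      refine ⟨_, mul_mem (hP ⟨_, inv_mem (fn s s1)⟩ (Subtype.ext s2.inv_left.eq)) v1,
        (fun j => (-1) ^ R.co s j) * d', by simp only [coe_mul, map_mul, v2, ← he, h_eq_n], fun j => ?_⟩
      rw [List.map_cons, List.sum_cons, _root_.zpow_add, ← v3, ← pv_eq, ← chi_h]
      simp [chi, mul_zpow, Finset.prod_mul_distrib]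
  obtain ⟨v, v1, d', v2, v3⟩ := key M fun s hs => (List.mem_sublists.1 hM).subset hs
  convert v1 using 1
  refine Subtype.ext ((tor_eq hh hS hG hZ fun j => ?_).trans v2.symm)
  rw [v3, χ1, neg_one_zpow_eq h2, k]
  split_ifs <;> rfl

end H20.Y
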