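/-
The exceptional groups in odd characteristic have the property `PB`.
-/
import Cfsg.Agent.H20.Y.C2
import Cfsg.Agent.H14.GoodAll
import Cfsg.Agent.H14.TwE6
import Cfsg.Agent.H14.TwD4

set_option autoImplicit false
set_option maxRecDepth 100000

namespace H20.Y
open Subgroup H14 H14.RootSys H14.St Cfsg.Lie

variable {n l : ℕ} (R : RootSys (Fin n) (Fin l)) (ρ : Equiv.Perm (Fin n)) (π : Equiv.Perm (Fin l)) (θ : Fin n)
  (L : List (Fin n × ℤ)) (Q : List (Fin n)) (e : ℤ)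

/-- decidable form of `Chk` -/
def Cond : Prop :=
  (∀ β ∈ L, ρ β.1 = β.1 ∧ R.pair θ β.1 ≠ 0) ∧ (∃ β ∈ L, β.1 = θ) ∧
    (∀ r, ∃ β ∈ L, (∑ j, pv R β.1 j * R.cf r j) % 2 = 1) ∧
    (∀ β ∈ L, ∀ r, ρ r = r → R.d r = R.d β.1 → (∀ j, pv R r j % 2 = pv R β.1 j % 2) → r = β.1 ∨ r = R.neg β.1) ∧
    (∃ β ∈ L, R.pair θ β.1 = 1) ∧ (∀ j, 0 < (L.map fun β => β.2 * pv R β.1 j).sum) ∧ (∀ r, R.d r ≤ e) ∧
    (∀ s ∈ Q, ρ s = s ∧ ∃ j, pv R s j % 2 = 1) ∧
    ((θ :: Q).Pairwise fun r s => R.pair r s = 0 ∧ e < R.d r + R.d s) ∧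
    ∀ m < 2 ^ l, (∀ j : Fin l, m.testBit (π j) = m.testBit j) →
      (∀ s ∈ θ :: Q, (∑ j : Fin l, if m.testBit j then R.cf s j else 0) % 2 = 0) →
      ∃ M ∈ (θ :: Q).sublists, ∀ j : Fin l, (M.map (pv R · j)).sum % 2 = if m.testBit j then 1 else 0

set_option synthInstance.maxSize 4000 in
instance decCond : Decidable (Cond R ρ π θ L Q e) := by unfold Cond; infer_instance

variable {R ρ π θ L Q e} in
theorem chk_of (h : Cond R ρ π θ L Q e) : Chk R ρ π θ L Q e := by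
  obtain ⟨h1, ⟨β, h2, rfl⟩, h3, h4, h5, h6, h7, h8, h9, k⟩ := h
  refine ⟨h1, ⟨_, h2⟩, h3, h4, h5, h6, h7, h8, h9, fun ε => ?_⟩
  simpa only [Nat.testBit_ofBits_lt _ _ (Fin.is_lt _)] using k _ (Nat.ofBits_lt_two_pow ε)

instance nzE7 : NeZero chevE7.nroots := ⟨by decide⟩
instance nzE8 : NeZero chevE8.nroots := ⟨by decide⟩

theorem chkG2 : Chk goodG2.R 1 1 11 [(11, 3), (6, -1)] [] 3 := chk_of (by decide +kernel)
theorem chkF4 : Chk goodF4.R 1 1 47 [(47, 8), (24, -2), (26, -2), (31, -1)] [25, 30] 2 := chk_of (by decide +kernel)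
theorem chkE6 : Chk goodE6.R 1 1 71 [(71, 8), (46, -2), (47, -2), (51, -1)] [36, 39] 1 := chk_of (by decide +kernel)
theorem chk2E6 : Chk goodE6.R okgrE6.rho okgrE6.pi 71 [(71, 8), (46, -2), (47, -2), (51, -1)] [39, 44] 1 :=
  chk_of (by decide +kernel)
theorem chk3D4 : Chk goodD4.R okgrD4.rho okgrD4.pi 23 [(23, 3), (14, -1)] [] 1 := chk_of (by decide +kernel)
theorem chkE7 : Chk goodE7.R 1 1 125 [(125, 49), (93, -15), (94, -11), (95, -7), (96, -3), (97, 1), (98, 5)]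
    [63, 66, 73, 78] 1 := chk_of (by decide +kernel)
theorem chkE8 : Chk goodE8.R 1 1 239 [(239, 23), (120, -5), (122, -4), (125, -3), (129, -2), (134, -1), (140, -1),
    (146, -1)] [121, 126, 135] 1 := chk_of (by decide +kernel)

variable {K : Type*} [Field K] (p : ℕ) [Fact p.Prime] [CharP K p]
include p

theorem pb_chev {D : ChevalleyDatum} (G : Good D) (h2 : (2 : K) ≠ 0) {θ L Q e} (c : Chk G.R 1 1 θ L Q e) :
    PB (D.group K) := by
  have := pb_tw ((G.SG_hmul K).tw (G.SG_sep K) (G.SG_top K) 1) (G.SG_hmul K) (G.center_eq_bot K) (p := p) h2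
    (fun r _ => by simp [HMul.tw, chi]) c
  rw [show ((G.SG_hmul K).tw (G.SG_sep K) (G.SG_top K) 1).fix = ⊤ from eq_top_iff.2 fun g _ =>
    (HMul.mem_tw_fix ..).2 (by simp)] at this
  exact this.of_equiv topEquiv

theorem pb_isTw {D : ChevalleyDatum} (G : Good D) {g : GrD} (hg : g.Ok D) (hK : g.Fits K) (φ : K →+* K)
    (hφ : Function.Surjective φ) {Γ} (h : Good.IsTw (G.tw hg hK φ hφ) Γ) (h2 : (2 : K) ≠ 0)
    (hγ : ∀ r, hg.rho r = r → g.gam r = 1) {θ L Q e} (c : Chk G.R hg.rho hg.pi θ L Q e) : PB Γ :=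
  h.eq ▸ (pb_tw (G.tw hg hK φ hφ) (G.SG_hmul K) (G.center_eq_bot K) (p := p) h2
    (fun r hr => by rw [G.tw_f hg hK φ hφ ⟨hγ r hr, rfl⟩, one_pow, map_one]) c).of_equiv
    (equivMapOfInjective _ _ (subtype_injective _))

theorem pb_2E6 [Fintype K] (h2 : (2 : K) ≠ 0) {q : ℕ} (hq : IsPrimePow q) (hK : Fintype.card K = q ^ 2) :
    PB (twistedE6 K q) := by
  obtain ⟨φ, h, k⟩ := E6.exists_hom hq hK
  exact pb_isTw p _ _ _ _ _ (E6.isTw (h2 := h) k) h2 (by decide +kernel) chk2E6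

theorem pb_3D4 [Fintype K] (h2 : (2 : K) ≠ 0) {q : ℕ} (hq : IsPrimePow q) (hK : Fintype.card K = q ^ 3) :
    PB (twistedD4 K q) := by
  obtain ⟨φ, h, k⟩ := D4.exists_hom hq hK
  exact pb_isTw p _ _ _ _ _ (D4.isTw (h3 := h) k) h2 (by decide +kernel) chk3D4

end H20.Y
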